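import Mathlib

/-!
Evaluation of sections at field valued points, and field valued points of affine spaces.
-/

set_option autoImplicit false
set_option backward.isDefEq.respectTransparency false
set_option backward.isDefEq.respectTransparency.types false
set_option linter.style.haveILetI false

universe u

open CategoryTheory CategoryTheory.Limits AlgebraicGeometry TopologicalSpace Opposite IsLocalRing

noncomputable section

namespace Groth.Agent.Multisec

variable {F : Type u} [Field F] {W W' : Scheme.{u}}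

lemma top_le_preimage {h : Spec (CommRingCat.of F) ⟶ W} {V : W.Opens} (hV : h (closedPoint F) ∈ V) :
    ⊤ ≤ h ⁻¹ᵁ V := fun p _ => by
  rw [show p = closedPoint F from Subsingleton.elim (α := PrimeSpectrum F) p (closedPoint F)]
  exact hV

/-- Evaluation of a section at a field valued point. -/
def evF (h : Spec (CommRingCat.of F) ⟶ W) (V : W.Opens) (hV : h (closedPoint F) ∈ V) : Γ(W, V) →+* F :=
  (h.appLE V ⊤ (top_le_preimage hV) ≫ (Scheme.ΓSpecIso (CommRingCat.of F)).hom).hom

lemma evF_res (h : Spec (CommRingCat.of F) ⟶ W) {V V' : W.Opens} (hV' : h (closedPoint F) ∈ V') (i : V' ≤ V)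
    (s : Γ(W, V)) :
    evF h V' hV' (W.presheaf.map (homOfLE i).op s) = evF h V (i hV') s := by
  change (W.presheaf.map (homOfLE i).op ≫ h.appLE V' ⊤ _ ≫ (Scheme.ΓSpecIso _).hom).hom s = _
  rw [Scheme.Hom.map_appLE_assoc]
  rfl

lemma evF_comp (h : Spec (CommRingCat.of F) ⟶ W) (f : W ⟶ W') (V : W'.Opens) (hV : (h ≫ f) (closedPoint F) ∈ V)
    (s : Γ(W', V)) : evF (h ≫ f) V hV s = evF h (f ⁻¹ᵁ V) hV (f.app V s) := by
  change ((h ≫ f).appLE V ⊤ _ ≫ (Scheme.ΓSpecIso _).hom).hom s =
    (f.app V ≫ h.appLE (f ⁻¹ᵁ V) ⊤ _ ≫ (Scheme.ΓSpecIso _).hom).hom s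
  rw [Scheme.Hom.app_eq_appLE, Scheme.Hom.appLE_comp_appLE_assoc]

lemma evF_congr {h h' : Spec (CommRingCat.of F) ⟶ W} (e : h = h') (V : W.Opens) (hV : h (closedPoint F) ∈ V)
    (s : Γ(W, V)) : evF h V hV s = evF h' V (e ▸ hV) s := by
  subst e; rfl

/-- Evaluation commutes with field extensions. -/
lemma evF_map {K : Type u} [Field K] (f : CommRingCat.of K ⟶ CommRingCat.of F)
    (h : Spec (CommRingCat.of K) ⟶ W) (V : W.Opens) (hV : (Spec.map f ≫ h) (closedPoint F) ∈ V)
    (hV' : h (closedPoint K) ∈ V) (s : Γ(W, V)) :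
    evF (Spec.map f ≫ h) V hV s = f.hom (evF h V hV' s) := by
  change ((Spec.map f ≫ h).appLE V ⊤ _ ≫ (Scheme.ΓSpecIso _).hom).hom s =
    (h.appLE V ⊤ _ ≫ (Scheme.ΓSpecIso _).hom ≫ f).hom s
  rw [← Scheme.ΓSpecIso_naturality, Scheme.Hom.appTop, Scheme.Hom.app_eq_appLE, Scheme.Hom.appLE_comp_appLE_assoc]
  rfl

lemma evF_eq_zero_iff (h : Spec (CommRingCat.of F) ⟶ W) (V : W.Opens) (hV : h (closedPoint F) ∈ V) (s : Γ(W, V)) :
    evF h V hV s = 0 ↔ h (closedPoint F) ∉ W.basicOpen s := by
  let s' : Γ(Spec (CommRingCat.of F), ⊤) := h.appLE V ⊤ (top_le_preimage hV) s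
  have hb : (Spec (CommRingCat.of F)).basicOpen s' = h ⁻¹ᵁ W.basicOpen s := by
    simp only [s', Scheme.basicOpen_appLE, top_inf_eq]
  change (Scheme.ΓSpecIso _).hom s' = 0 ↔ _
  rw [show ((Scheme.ΓSpecIso (CommRingCat.of F)).hom s' = 0) = (s' = 0) from propext (map_eq_zero_iff _
    (Scheme.ΓSpecIso (CommRingCat.of F)).commRingCatIsoToRingEquiv.injective)]
  constructor
  · intro h0 hmem
    have : closedPoint F ∈ (Spec (CommRingCat.of F)).basicOpen s' := hb ▸ hmem
    rw [h0, Scheme.basicOpen_zero] at this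
    exact this
  · intro hmem
    by_contra h0
    refine hmem ?_
    have hu : IsUnit s' := by
      have := (isUnit_iff_ne_zero (G₀ := F)).2 fun e => h0 ((map_eq_zero_iff _
        (Scheme.ΓSpecIso (CommRingCat.of F)).commRingCatIsoToRingEquiv.injective).1 e)
      exact (isUnit_map_iff (Scheme.ΓSpecIso (CommRingCat.of F)).commRingCatIsoToRingEquiv s').1 this
    have := Scheme.basicOpen_of_isUnit _ hu
    rw [hb] at this
    exact this.ge trivial

/-- A point in an affine open is given by evaluation. -/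
lemma specMap_evF_fromSpec (h : Spec (CommRingCat.of F) ⟶ W) {V : W.Opens} (hVa : IsAffineOpen V)
    (hV : h (closedPoint F) ∈ V) : Spec.map (CommRingCat.ofHom (evF h V hV)) ≫ hVa.fromSpec = h := by
  change Spec.map (h.appLE V ⊤ (top_le_preimage hV) ≫ (Scheme.ΓSpecIso _).hom) ≫ hVa.fromSpec = h
  rw [Spec.map_comp, Category.assoc, IsAffineOpen.SpecMap_appLE_fromSpec h hVa (isAffineOpen_top _),
    IsAffineOpen.fromSpec_top, ← Category.assoc]
  have : Spec.map (Scheme.ΓSpecIso (CommRingCat.of F)).hom ≫ (Spec (CommRingCat.of F)).isoSpec.inv = 𝟙 _ := by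
    rw [Scheme.isoSpec_Spec_inv, ← Spec.map_comp, Iso.inv_hom_id, Spec.map_id]
  rw [this, Category.id_comp]

/-- Comparison of two descriptions of a point over `y`. -/
lemma range_subset_of_eq {y : W} {K : Type u} [Field K] (α : W.residueField y ⟶ CommRingCat.of F)
    (β : CommRingCat.of K ⟶ CommRingCat.of F) (hq : Spec (CommRingCat.of K) ⟶ W)
    (he : Spec.map α ≫ W.fromSpecResidueField y = Spec.map β ≫ hq) : Set.range α ⊆ Set.range β := by
  have hy : hq (closedPoint K) = y := by
    have h1 := congrArg (fun t : Spec (CommRingCat.of F) ⟶ W => t (closedPoint F)) he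
    simp only [Scheme.fromSpecResidueField_apply, Scheme.Hom.comp_apply] at h1
    refine Eq.trans ?_ h1.symm
    exact congrArg hq (Subsingleton.elim (α := PrimeSpectrum K) _ _)
  subst hy
  let γ := W.descResidueField (Scheme.stalkClosedPointTo hq)
  have hγ : α = γ ≫ β := by
    apply Spec.map_injective
    rw [← cancel_mono (W.fromSpecResidueField (hq (closedPoint K))), Spec.map_comp, Category.assoc,
      Scheme.descResidueField_stalkClosedPointTo_fromSpecResidueField, he]
  rintro _ ⟨c, rfl⟩
  exact ⟨γ.hom c, by rw [hγ]; rfl⟩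

/-- A residue field is minimal. -/
lemma eq_top_of_factor {z : W} (K : Subfield (W.residueField z)) (h : Spec (CommRingCat.of K) ⟶ W)
    (he : Spec.map (CommRingCat.ofHom K.subtype) ≫ h = W.fromSpecResidueField z) : K = ⊤ := by
  have hr := range_subset_of_eq (F := W.residueField z) (K := K) (𝟙 (W.residueField z))
    (CommRingCat.ofHom K.subtype) h (by rw [Spec.map_id]; exact (Category.id_comp _).trans he.symm)
  refine eq_top_iff.2 fun c _ => ?_
  obtain ⟨d, hd⟩ := hr ⟨c, rfl⟩
  change K.subtype d = c at hd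
  rw [← hd]
  exact d.2

variable {σ : Type u}

/-- A field valued point of affine space over a ring is the generic point iff the coordinates are
algebraically independent. -/
lemma apply_closedPoint_eq_generic_iff {R : Type u} [CommRing R] [IsDomain R] [Algebra R F]
    (h : Spec (CommRingCat.of F) ⟶ 𝔸(σ; Spec (CommRingCat.of R)))
    (hbase : h ≫ (𝔸(σ; Spec (CommRingCat.of R)) ↘ Spec (CommRingCat.of R)) =
      Spec.map (CommRingCat.ofHom (algebraMap R F))) :
    h (closedPoint F) = genericPoint 𝔸(σ; Spec (CommRingCat.of R)) ↔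
      AlgebraicIndependent R fun i => evF h ⊤ trivial (AffineSpace.coord _ i) := by
  let S := CommRingCat.of R
  obtain ⟨φ, hφ⟩ := Spec.map_surjective (h ≫ (AffineSpace.SpecIso σ S).hom)
  have hh : h = Spec.map φ ≫ (AffineSpace.SpecIso σ S).inv := by rw [hφ, Category.assoc, Iso.hom_inv_id, Category.comp_id]
  have hC : CommRingCat.ofHom MvPolynomial.C ≫ φ = CommRingCat.ofHom (algebraMap R F) := by
    apply Spec.map_injective
    rw [Spec.map_comp, ← AffineSpace.SpecIso_inv_over, ← Category.assoc, ← hh, hbase]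
  have hX : ∀ i, φ.hom (MvPolynomial.X i) = evF h ⊤ trivial (AffineSpace.coord _ i) := fun i => by
    rw [evF_congr hh ⊤ trivial, evF_comp]
    change _ = evF (Spec.map φ) ⊤ trivial ((AffineSpace.SpecIso σ S).inv.appTop (AffineSpace.coord (Spec S) i))
    rw [AffineSpace.SpecIso_inv_appTop_coord]
    change _ = ((Scheme.ΓSpecIso _).inv ≫ (Spec.map φ).appLE ⊤ ⊤ _ ≫ (Scheme.ΓSpecIso _).hom).hom (MvPolynomial.X i)
    rw [show (Spec.map φ).appLE ⊤ ⊤ (top_le_preimage trivial) = (Spec.map φ).appTop from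
      (Scheme.Hom.app_eq_appLE _).symm, Scheme.ΓSpecIso_naturality, Iso.inv_hom_id_assoc]
  have hae : ∀ P : MvPolynomial σ R,
      φ.hom P = MvPolynomial.aeval (fun i => evF h ⊤ trivial (AffineSpace.coord _ i)) P := fun P => by
    induction P using MvPolynomial.induction_on with
    | C c => rw [MvPolynomial.aeval_C]; exact congrArg (fun t => t.hom c) hC
    | add p q hp hq => rw [map_add, map_add, hp, hq]
    | mul_X p i hp => rw [map_mul, map_mul, hp, hX, MvPolynomial.aeval_X]
  rw [algebraicIndependent_iff]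
  haveI : IsDomain (CommRingCat.of (MvPolynomial σ R)) := inferInstanceAs (IsDomain (MvPolynomial σ R))
  let e := (AffineSpace.SpecIso σ S).hom
  have hgen : e (genericPoint 𝔸(σ; Spec S)) = genericPoint (Spec (CommRingCat.of (MvPolynomial σ R))) :=
    genericPoint_eq_of_isOpenImmersion e
  have hinj : Function.Injective e := e.isOpenEmbedding.injective
  rw [← hinj.eq_iff, hgen, genericPoint_eq_bot_of_affine]
  have hpt : e (h (closedPoint F)) = (Spec.map φ) (closedPoint F) := by
    rw [hφ, Scheme.Hom.comp_apply]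
  rw [hpt]
  constructor
  · intro h0 P hP
    have : P ∈ ((Spec.map φ) (closedPoint F)).asIdeal := by
      change φ.hom P ∈ IsLocalRing.maximalIdeal F
      rw [hae, hP]
      exact zero_mem _
    rw [h0] at this
    exact this
  · intro h0
    refine PrimeSpectrum.ext (eq_bot_iff.2 fun P hP => h0 P ?_)
    change φ.hom P ∈ IsLocalRing.maximalIdeal F at hP
    rw [IsLocalRing.maximalIdeal_eq_bot, Ideal.mem_bot, hae] at hP
    exact hP

end Groth.Agent.Multisec
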