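import Groth.Agent.Multisec.Field
import Groth.Agent.Multisec.FieldPoint
import Groth.Agent.ProjMor.Sym
import Groth.Agent.ProjMor.Base
import Groth.Agent.ProjLib.ClosedSub
import Groth.Agent.S9576

/-!
Coordinate ratios on a closed subscheme of projective space and the forms used for general sections.
-/

set_option autoImplicit false
set_option backward.isDefEq.respectTransparency false
set_option backward.isDefEq.respectTransparency.types false
set_option linter.style.haveILetI false
set_option maxHeartbeats 1000000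

universe u

open CategoryTheory CategoryTheory.Limits AlgebraicGeometry TopologicalSpace Opposite IsLocalRing
open Groth.Agent.QC (resO)

noncomputable section

namespace Groth.Agent.Multisec

variable {k : Type u} [Field k] {n : ℕ} {X : Scheme.{u}} (e : X ⟶ CohB1.ProjSpace n k)

/-- The chart `x_i ≠ 0`. -/
def U (i : Fin (n + 1)) : X.Opens :=
  e ⁻¹ᵁ Proj.basicOpen (CohB1.polyGrading n k) (MvPolynomial.X i)

/-- The ratio `x_j / x_i`. -/
def ratio (i j : Fin (n + 1)) : Γ(X, U e i) :=
  ProjMor.ev e _ (U e i) le_rfl (GrT.deh _ (MvPolynomial.isHomogeneous_X k i) (MvPolynomial.X j))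

lemma ratio_self (i : Fin (n + 1)) : ratio e i i = 1 := by
  rw [ratio, GrT.deh_self, map_one]

lemma exists_mem_U (x : X) : ∃ i, x ∈ U e i := by
  have h : e.base x ∈ (⊤ : (CohB1.ProjSpace n k).Opens) := trivial
  rw [← (Groth.Agent.S9576.result n k).1, Opens.mem_iSup] at h
  exact h

/-- The monomials: index `(i', j, l)` is `x_{i'}^(N-l) x_j^l`. -/
abbrev Idx (n N : ℕ) := Fin (n + 1) × Fin (n + 1) × Fin (N + 1)

/-- A monomial in the chart `i`. -/
def mono (N : ℕ) (i : Fin (n + 1)) (J : Idx n N) : Γ(X, U e i) :=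
  ratio e i J.1 ^ (N - (J.2.2 : ℕ)) * ratio e i J.2.1 ^ (J.2.2 : ℕ)

lemma mono_pow (N : ℕ) (i j : Fin (n + 1)) (l : Fin (N + 1)) : mono e N i (i, j, l) = ratio e i j ^ (l : ℕ) := by
  rw [mono, ratio_self, one_pow, one_mul]

lemma mono_one (N : ℕ) (i : Fin (n + 1)) : mono e N i (i, i, 0) = 1 := by
  rw [mono_pow, Fin.val_zero, pow_zero]

/-- The change of chart. -/
lemma evF_ratio_mul {F : Type u} [Field F] (h : Spec (CommRingCat.of F) ⟶ X) {i i' : Fin (n + 1)}
    (hi : h (closedPoint F) ∈ U e i) (hi' : h (closedPoint F) ∈ U e i') (j : Fin (n + 1)) :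
    evF h _ hi' (ratio e i' j) * evF h _ hi (ratio e i i') = evF h _ hi (ratio e i j) := by
  let V := U e i ⊓ U e i'
  have hV : h (closedPoint F) ∈ V := ⟨hi, hi'⟩
  have hc := ProjMor.ev_cross e (MvPolynomial.isHomogeneous_X k i) (MvPolynomial.isHomogeneous_X k i')
    (V := V) inf_le_left inf_le_right (n := 1) (a := MvPolynomial.X j) (MvPolynomial.isHomogeneous_X k j)
  have h1 : ∀ (i₀ : Fin (n + 1)) (hle : V ≤ U e i₀) (j₀ : Fin (n + 1)),
      ProjMor.ev e _ V hle (GrT.deh _ (MvPolynomial.isHomogeneous_X k i₀) (MvPolynomial.X j₀)) =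
        X.presheaf.map (homOfLE hle).op (ratio e i₀ j₀) := fun i₀ hle j₀ =>
    (ProjMor.ev_res e (le_refl (U e i₀)) hle _).symm
  rw [pow_one] at hc
  replace hc : X.presheaf.map (homOfLE (inf_le_right : V ≤ U e i')).op (ratio e i' j) *
      X.presheaf.map (homOfLE (inf_le_left : V ≤ U e i)).op (ratio e i i') =
      X.presheaf.map (homOfLE (inf_le_left : V ≤ U e i)).op (ratio e i j) :=
    (congrArg₂ (· * ·) (h1 i' inf_le_right j) (h1 i inf_le_left i')).symm.trans (hc.trans (h1 i inf_le_left j))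
  have := congrArg (evF h V hV) hc
  rw [map_mul] at this
  exact ((congrArg₂ (· * ·) (evF_res h hV inf_le_right _) (evF_res h hV inf_le_left _)).symm.trans this).trans
    (evF_res h hV inf_le_left _)

lemma evF_mono_change {F : Type u} [Field F] (h : Spec (CommRingCat.of F) ⟶ X) {i i' : Fin (n + 1)}
    (hi : h (closedPoint F) ∈ U e i) (hi' : h (closedPoint F) ∈ U e i') (N : ℕ) (J : Idx n N) :
    evF h _ hi (mono e N i J) = evF h _ hi (ratio e i i') ^ N * evF h _ hi' (mono e N i' J) := by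
  simp only [mono, map_mul, map_pow]
  rw [← evF_ratio_mul e h hi hi' J.1, ← evF_ratio_mul e h hi hi' J.2.1, mul_pow, mul_pow]
  have hl : (J.2.2 : ℕ) ≤ N := Nat.lt_succ_iff.1 J.2.2.2
  have hp : evF h _ hi (ratio e i i') ^ N = evF h _ hi (ratio e i i') ^ (N - (J.2.2 : ℕ)) *
      evF h _ hi (ratio e i i') ^ (J.2.2 : ℕ) := by rw [← pow_add, Nat.sub_add_cancel hl]
  rw [hp]
  ring

lemma evF_ratio_ne_zero {F : Type u} [Field F] (h : Spec (CommRingCat.of F) ⟶ X) {i i' : Fin (n + 1)}
    (hi : h (closedPoint F) ∈ U e i) (hi' : h (closedPoint F) ∈ U e i') : evF h _ hi (ratio e i i') ≠ 0 := fun h0 => by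
  have := evF_ratio_mul e h hi hi' i
  rw [h0, mul_zero, ratio_self, map_one] at this
  exact zero_ne_one this

variable [IsClosedImmersion e] {sX : X ⟶ Spec (CommRingCat.of k)} (hsX : e ≫ CohB1.ProjSpace.toSpec n k = sX)

lemma isAffineOpen_U (i : Fin (n + 1)) : IsAffineOpen (U e i) :=
  (ProjLib.isAffineOpen_basicOpen _ (MvPolynomial.isHomogeneous_X k i) one_pos).preimage e

/-- The scalars at a field valued point. -/
def kF {F : Type u} [Field F] {W : Scheme.{u}} (sW : W ⟶ Spec (CommRingCat.of k))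
    (h : Spec (CommRingCat.of F) ⟶ W) : k →+* F :=
  (evF (h ≫ sW) ⊤ trivial).comp (Scheme.ΓSpecIso (CommRingCat.of k)).inv.hom

lemma specMap_kF {F : Type u} [Field F] {W : Scheme.{u}} (sW : W ⟶ Spec (CommRingCat.of k))
    (h : Spec (CommRingCat.of F) ⟶ W) : Spec.map (CommRingCat.ofHom (kF sW h)) = h ≫ sW := by
  conv_rhs => rw [← specMap_evF_fromSpec (h ≫ sW) (isAffineOpen_top _) trivial, IsAffineOpen.fromSpec_top]
  rw [Scheme.isoSpec_Spec_inv, ← Spec.map_comp]
  rfl

include hsX in
/-- Functions on the charts are generated by scalars and ratios. -/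
lemma evF_mem {F : Type u} [Field F] (h : Spec (CommRingCat.of F) ⟶ X) {i : Fin (n + 1)}
    (hi : h (closedPoint F) ∈ U e i) {S : Type*} [SetLike S F] [SubringClass S F] (K : S)
    (hk : ∀ c, kF sX h c ∈ K) (hr : ∀ j, evF h _ hi (ratio e i j) ∈ K) (f : Γ(X, U e i)) : evF h _ hi f ∈ K := by
  let hX := MvPolynomial.isHomogeneous_X k i
  let D := Proj.basicOpen (CohB1.polyGrading n k) (MvPolynomial.X i)
  obtain ⟨f', rfl⟩ : ∃ f', ProjMor.ev e D (U e i) le_rfl f' = f := by
    obtain ⟨y, hy⟩ := e.app_surjective D (ProjLib.isAffineOpen_basicOpen _ hX one_pos) f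
    exact ⟨y, by rw [← hy, ProjMor.ev, Scheme.Hom.app_eq_appLE]; rfl⟩
  obtain ⟨P, rfl⟩ := ProjMor.exists_deh_eq hX f'
  induction P using MvPolynomial.induction_on with
  | C c =>
    rw [← MvPolynomial.algebraMap_eq]
    refine (congrArg (fun t => t ∈ K) (congrArg (evF h _ hi)
      (ProjMor.ev_deh_algebraMap (CohB1.polyGrading n k) e hsX hX le_rfl c))).mpr ?_
    change evF h _ hi (X.presheaf.map (homOfLE le_top).op _) ∈ K
    rw [evF_res h hi le_top]
    convert hk c using 1
    simp only [kF, RingHom.comp_apply]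
    rw [evF_comp]
    rfl
  | add p q hp hq => rw [map_add, map_add, map_add]; exact add_mem hp hq
  | mul_X p j hp => rw [map_mul, map_mul, map_mul]; exact mul_mem hp (hr j)

end Groth.Agent.Multisec
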