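import Mathlib

/-!
The counting argument for general hypersurface sections: if `d` forms, whose monomials contain the powers
`1, w, …, w^N` of every coordinate `w`, vanish at a point `a` of a fibre of dimension `≤ d`, then
`trdeg (coefficients) + (N + 1) · trdeg (point over coefficients) ≤ d · #monomials` over the base point.
-/

set_option autoImplicit false
set_option linter.style.haveILetI false
set_option maxHeartbeats 1000000
set_option synthInstance.maxHeartbeats 100000

universe u

open MvPolynomial IntermediateField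

namespace Groth.Agent.Multisec

/-- An algebraically independent family inside a field generated by elements algebraic over `k[S]` has at
most as many elements as `S`. -/
lemma card_le_of_gen {k Ω : Type u} [Field k] [Field Ω] [Algebra k Ω] (S : Finset Ω) (G : Set Ω)
    (hG : ∀ x ∈ G, IsAlgebraic ↥(Algebra.adjoin k (S : Set Ω)) x) {ι : Type u} [Fintype ι] (f : ι → Ω)
    (hf : ∀ i, f i ∈ adjoin k G) (hi : AlgebraicIndependent k f) : Fintype.card ι ≤ S.card := by
  let M := AlgebraicIndependent.matroid k Ω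
  have hmem : ∀ (X : Set Ω) (x : Ω), x ∈ M.closure X ↔ IsAlgebraic ↥(Algebra.adjoin k X) x := fun X x => by
    simp only [M, AlgebraicIndependent.matroid_closure_eq, SetLike.mem_coe, Subalgebra.mem_algebraicClosure]
  have hGS : M.closure G ⊆ M.closure (S : Set Ω) :=
    (M.closure_subset_closure fun x hx => (hmem _ _).2 (hG x hx)).trans (M.closure_closure _).le
  have hr : Set.range f ⊆ M.closure (S : Set Ω) := by
    rintro _ ⟨i, rfl⟩
    refine hGS ((hmem _ _).2 ?_)
    obtain ⟨r, hr, s, hs, hz⟩ := (IntermediateField.mem_adjoin_iff_div).1 (hf i)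
    rw [hz, div_eq_mul_inv]
    exact (isAlgebraic_algebraMap (R := ↥(Algebra.adjoin k G)) (A := Ω) ⟨r, hr⟩).mul
      (isAlgebraic_algebraMap (R := ↥(Algebra.adjoin k G)) (A := Ω) ⟨s, hs⟩).inv
  have hind : M.Indep (Set.range f) :=
    AlgebraicIndependent.matroid_indep_iff.2 hi.to_subtype_range
  have h := (hind.encard_le_eRk_of_subset hr).trans ((M.eRk_closure_eq _).trans_le (M.eRk_le_encard _))
  rw [← Set.image_univ, hi.injective.injOn.encard_image, Set.encard_univ, ENat.card_eq_coe_fintype_card,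
    Set.encard_coe_eq_coe_finsetCard] at h
  exact_mod_cast h

/-- A transcendence basis may be sent to any algebraically independent family of an algebraically closed
extension. -/
lemma exists_extend {K F Ω : Type u} [Field K] [Field F] [Field Ω] [IsAlgClosed Ω] [Algebra K F] [Algebra K Ω]
    {ι : Type u} (y : ι → F) (hy : IsTranscendenceBasis K y) (z : ι → Ω) (hz : AlgebraicIndependent K z) :
    ∃ φ : F →ₐ[K] Ω, ∀ i, φ (y i) = z i := by
  let R := Algebra.adjoin K (Set.range y)
  let e : MvPolynomial ι K ≃ₐ[K] R := hy.1.aevalEquiv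
  let ψ : R →ₐ[K] Ω := (MvPolynomial.aeval z).comp e.symm.toAlgHom
  letI : Algebra R Ω := ψ.toRingHom.toAlgebra
  haveI : IsScalarTower K R Ω := IsScalarTower.of_algebraMap_eq fun x => (ψ.commutes x).symm
  haveI : Algebra.IsAlgebraic R F := hy.isAlgebraic
  haveI : FaithfulSMul R Ω := (faithfulSMul_iff_algebraMap_injective R Ω).2 (fun a b h => e.symm.injective (algebraicIndependent_iff_injective_aeval.1 hz h))
  let φ : F →ₐ[R] Ω := IsAlgClosed.lift
  refine ⟨φ.restrictScalars K, fun i => ?_⟩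
  have h1 : φ (algebraMap R F ⟨y i, Algebra.subset_adjoin ⟨i, rfl⟩⟩) = _ := φ.commutes _
  refine h1.trans ?_
  change ψ _ = _
  have h2 : e.symm ⟨y i, Algebra.subset_adjoin ⟨i, rfl⟩⟩ = MvPolynomial.X i := by
    rw [AlgEquiv.symm_apply_eq]
    apply Subtype.ext
    exact ((hy.1.algebraMap_aevalEquiv (MvPolynomial.X i)).trans (aeval_X _ _)).symm
  change MvPolynomial.aeval z (e.symm ⟨y i, Algebra.subset_adjoin ⟨i, rfl⟩⟩) = _
  rw [h2, aeval_X]

variable {L0 F : Type u} [Field L0] [Field F] [Algebra L0 F]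

/-- The counting inequality. -/
theorem count {d N n : ℕ} {J : Type} [Fintype J] (a : Fin n → F) (T : Fin d → J → F) (u : J → F)
    (hu : ∀ J', u J' ∈ adjoin L0 (Set.range a))
    (q : Fin n → Fin (N + 1) → J) (hq : ∀ j, Function.Injective (q j))
    (huq : ∀ j l, u (q j l) = a j ^ (l : ℕ))
    (hrel : ∀ l, ∑ J', T l J' * u J' = 0)
    (hgen : adjoin L0 (Set.range (fun p : Fin d × J => T p.1 p.2) ∪ Set.range a) = ⊤)
    (hd : Algebra.trdeg L0 ↥(adjoin L0 (Set.range a)) ≤ d) :
    ∀ (L' : IntermediateField L0 F), L' = adjoin L0 (Set.range fun p : Fin d × J => T p.1 p.2) →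
      ∃ t s : ℕ, Algebra.trdeg L0 L' = t ∧ Algebra.trdeg L' F = s ∧ (s = 0 ∨ t + (N + 1) * s ≤ d * Fintype.card J) := by
  classical
  intro L' hL'
  have hT : ∀ l J', T l J' ∈ L' := fun l J' => hL' ▸ subset_adjoin L0 _ ⟨(l, J'), rfl⟩
  have hFgen : adjoin L' (Set.range a) = ⊤ := by
    apply restrictScalars_injective L0
    rw [restrictScalars_top, restrictScalars_adjoin, eq_top_iff, ← hgen]
    exact adjoin_le_iff.2 (Set.union_subset
      (fun x hx => subset_adjoin L0 _ (Or.inl (hL' ▸ subset_adjoin L0 _ hx)))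
      (fun x hx => subset_adjoin L0 _ (Or.inr hx)))
  -- algebraic over the subalgebra of the coordinates
  haveI hFalg : ∀ s : Set F, Set.range a ⊆ s → Algebra.IsAlgebraic ↥(Algebra.adjoin L' s) F := fun s hs => by
    refine ⟨fun z => ?_⟩
    obtain ⟨r, hr, s', hs', hz⟩ := (IntermediateField.mem_adjoin_iff_div).1 (show z ∈ adjoin L' (Set.range a) from hFgen ▸ mem_top)
    have hr' := Algebra.adjoin_mono hs hr
    have hs'' := Algebra.adjoin_mono hs hs'
    rw [hz, div_eq_mul_inv]
    exact (isAlgebraic_algebraMap (R := ↥(Algebra.adjoin L' s)) (A := F) ⟨r, hr'⟩).mul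
      (isAlgebraic_algebraMap (R := ↥(Algebra.adjoin L' s)) (A := F) ⟨s', hs''⟩).inv
  -- a basis of `F` over `L'`
  obtain ⟨B₀, -, hB₀r, hB₀⟩ : ∃ B ⊇ (∅ : Set F), B ⊆ Set.range a ∧ IsTranscendenceBasis L' ((↑) : B → F) := by
    haveI := hFalg (Set.range a) subset_rfl
    exact exists_isTranscendenceBasis_between (∅ : Set F) (Set.range a) (Set.empty_subset _)
      (algebraicIndependent_empty (K := L') (A := F))
  haveI hB₀fin : Finite B₀ := ((Set.finite_range a).subset hB₀r).to_subtype
  let s := Nat.card B₀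
  have hs : Algebra.trdeg L' F = s := by
    rw [← hB₀.cardinalMk_eq_trdeg, Nat.cast_card]
  -- bases over `L0`
  obtain ⟨C, hCr, hC⟩ : ∃ C ⊆ Set.range (fun p : Fin d × J => (⟨T p.1 p.2, hT p.1 p.2⟩ : L')),
      IsTranscendenceBasis L0 ((↑) : C → L') := by
    haveI : Algebra.IsAlgebraic ↥(Algebra.adjoin L0 (Set.range fun p : Fin d × J => (⟨T p.1 p.2, hT p.1 p.2⟩ : L'))) L' := by
      refine ⟨fun z => ?_⟩
      obtain ⟨r, hr, s', hs', hz⟩ := (IntermediateField.mem_adjoin_iff_div).1 (show z.1 ∈ adjoin L0 (Set.range fun p : Fin d × J => T p.1 p.2) from hL' ▸ z.2)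
      have hmap : (Algebra.adjoin L0 (Set.range fun p : Fin d × J => (⟨T p.1 p.2, hT p.1 p.2⟩ : L'))).map L'.val =
          Algebra.adjoin L0 (Set.range fun p : Fin d × J => T p.1 p.2) := by
        rw [AlgHom.map_adjoin, ← Set.range_comp]
        rfl
      rw [← hmap] at hr hs'
      obtain ⟨r', hr', rfl⟩ := hr
      obtain ⟨s'', hs'', rfl⟩ := hs'
      have hz' : z = r' / s'' := Subtype.ext (by rw [hz]; rfl)
      rw [hz', div_eq_mul_inv]
      exact (isAlgebraic_algebraMap (R := ↥(Algebra.adjoin L0 _)) ⟨r', hr'⟩).mul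
        (isAlgebraic_algebraMap (R := ↥(Algebra.adjoin L0 _)) ⟨s'', hs''⟩).inv
    exact exists_isTranscendenceBasis_subset _
  haveI hCfin : Finite C := ((Set.finite_range _).subset hCr).to_subtype
  let t := Nat.card C
  have ht : Algebra.trdeg L0 L' = t := by
    rw [← hC.cardinalMk_eq_trdeg, Nat.cast_card]
  refine ⟨t, s, ht, hs, ?_⟩
  rcases Nat.eq_zero_or_pos s with hs0 | hspos
  · exact Or.inl hs0
  refine Or.inr ?_
  -- a transcendental coordinate
  obtain ⟨j₀, hj₀⟩ : ∃ j, Transcendental L' (a j) := by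
    obtain ⟨⟨b, hb⟩⟩ := (Nat.card_pos_iff.1 hspos).1
    obtain ⟨j, rfl⟩ := hB₀r hb
    exact ⟨j, hB₀.1.transcendental ⟨a j, hb⟩⟩
  obtain ⟨B, hjB, hBr, hB⟩ : ∃ B ⊇ ({a j₀} : Set F), B ⊆ Set.range a ∧ IsTranscendenceBasis L' ((↑) : B → F) := by
    haveI := hFalg (Set.range a) subset_rfl
    refine exists_isTranscendenceBasis_between ({a j₀} : Set F) (Set.range a) (Set.singleton_subset_iff.2 ⟨j₀, rfl⟩) ?_
    exact (algebraicIndependent_singleton_iff (R := L') (⟨a j₀, rfl⟩ : ({a j₀} : Set F))).2 hj₀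
  haveI hBfin : Finite B := ((Set.finite_range a).subset hBr).to_subtype
  have hBcard : Nat.card B = s := by
    have := hB.cardinalMk_eq_trdeg
    rw [hs, ← Nat.cast_card] at this
    exact_mod_cast this
  let b₀ : B := ⟨a j₀, hjB rfl⟩
  -- copies of `F` over `L'`
  let P := MvPolynomial (Fin (N + 1) × B) L'
  let Ω := AlgebraicClosure (FractionRing P)
  have hW : AlgebraicIndependent L' fun p : Fin (N + 1) × B => algebraMap P Ω (MvPolynomial.X p) :=
    (MvPolynomial.algebraicIndependent_X (Fin (N + 1) × B) L').map' (f := IsScalarTower.toAlgHom L' P Ω)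
      ((RingHom.injective (algebraMap (FractionRing P) Ω)).comp (IsFractionRing.injective P (FractionRing P)))
  have hφ : ∀ l : Fin (N + 1), ∃ φ : F →ₐ[L'] Ω, ∀ b : B, φ b = algebraMap P Ω (MvPolynomial.X (l, b)) := fun l =>
    exists_extend _ hB _ (hW.comp (fun b => (l, b)) fun _ _ h => (Prod.mk.inj h).2)
  choose φ hφb using hφ
  -- the solved coefficients
  let iT : L' →ₐ[L0] Ω := IsScalarTower.toAlgHom L0 L' Ω
  let Q : Fin d × J → Prop := fun p => p.2 ∈ Set.range (q j₀)
  let G : Set Ω := (⋃ l, φ l '' Set.range a) ∪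
    (fun p : Fin d × J => iT ⟨T p.1 p.2, hT p.1 p.2⟩) '' {p | ¬ Q p}
  have hw : ∀ l, φ l (a j₀) = algebraMap P Ω (MvPolynomial.X (l, b₀)) := fun l => hφb l b₀
  have hwi : Function.Injective fun l => φ l (a j₀) := fun l l' h => by
    simp only [hw] at h
    have := hW.injective h
    exact (Prod.mk.inj this).1
  have hua : ∀ l J', φ l (u J') ∈ adjoin L0 G := fun l J' => by
    have h1 : φ l (u J') ∈ (adjoin L0 (Set.range a)).map ((φ l).restrictScalars L0) := ⟨u J', hu J', rfl⟩
    rw [IntermediateField.adjoin_map] at h1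
    exact adjoin.mono L0 _ _ (fun x hx => Or.inl (Set.mem_iUnion.2 ⟨l, hx⟩)) h1
  have hTG : ∀ l' J', iT ⟨T l' J', hT l' J'⟩ ∈ adjoin L0 G := by
    intro l' J'
    by_cases hp : Q (l', J')
    swap
    · exact subset_adjoin L0 _ (Or.inr ⟨(l', J'), hp, rfl⟩)
    obtain ⟨i₀, rfl⟩ := hp
    let E := adjoin L0 G
    let w : Fin (N + 1) → E := fun l => ⟨φ l (a j₀), subset_adjoin L0 _ (Or.inl (Set.mem_iUnion.2 ⟨l, _, ⟨j₀, rfl⟩, rfl⟩))⟩
    let rest := (Finset.univ : Finset J).filter fun J' => J' ∉ Set.range (q j₀)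
    let c : Fin (N + 1) → E := fun l => ⟨- ∑ J' ∈ rest, iT ⟨T l' J', hT l' J'⟩ * φ l (u J'), neg_mem (sum_mem
      fun J' hJ' => mul_mem (subset_adjoin L0 _ (Or.inr ⟨(l', J'), (Finset.mem_filter.1 hJ').2, rfl⟩)) (hua l J'))⟩
    let x : Fin (N + 1) → E := (Matrix.vandermonde w)⁻¹.mulVec c
    have hdet : (Matrix.vandermonde w).det ≠ 0 :=
      Matrix.det_vandermonde_ne_zero_iff.2 fun l l' h => hwi (congrArg Subtype.val h)
    have hx : (Matrix.vandermonde w).mulVec x = c := by
      rw [Matrix.mulVec_mulVec, Matrix.mul_nonsing_inv _ (isUnit_iff_ne_zero.2 hdet), Matrix.one_mulVec]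
    let y : Fin (N + 1) → Ω := fun i => iT ⟨T l' (q j₀ i), hT _ _⟩ - x i
    have hy : (Matrix.vandermonde fun l => φ l (a j₀)).mulVec y = 0 := by
      funext l
      have h1 := congrArg (fun v : Fin (N + 1) → E => (v l : Ω)) hx
      simp only [Matrix.mulVec, dotProduct, Matrix.vandermonde_apply, c, w, AddSubmonoidClass.coe_finsetSum,
        MulMemClass.coe_mul, SubmonoidClass.coe_pow] at h1
      have h2 : ∑ J', iT ⟨T l' J', hT l' J'⟩ * φ l (u J') = 0 := by
        have := congrArg (φ l) (hrel l')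
        rw [map_sum, map_zero] at this
        rw [← this]
        refine Finset.sum_congr rfl fun J' _ => ?_
        rw [map_mul]
        exact congrArg (· * _) ((φ l).commutes ⟨T l' J', hT l' J'⟩).symm
      have himage : ((Finset.univ : Finset J).filter fun J' => J' ∈ Set.range (q j₀)) =
          Finset.univ.image (q j₀) := by ext J'; simp
      rw [← Finset.sum_filter_add_sum_filter_not Finset.univ (fun J' => J' ∈ Set.range (q j₀)), himage,
        Finset.sum_image fun i _ i' _ h => hq j₀ h] at h2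
      simp only [huq, map_pow] at h2
      simp only [Matrix.mulVec, dotProduct, Matrix.vandermonde_apply, y, Pi.zero_apply, mul_sub,
        Finset.sum_sub_distrib, h1]
      rw [sub_neg_eq_add, ← h2]
      congr 1
      exact Finset.sum_congr rfl fun i _ => mul_comm _ _
    have := congrFun (Matrix.eq_zero_of_mulVec_eq_zero (Matrix.det_vandermonde_ne_zero_iff.2 hwi) hy) i₀
    simp only [y, Pi.zero_apply, sub_eq_zero] at this
    rw [this]
    exact (x i₀).2
  -- the small set
  obtain ⟨D, hDr, hD⟩ : ∃ D ⊆ Set.range (fun j => (⟨a j, subset_adjoin L0 _ ⟨j, rfl⟩⟩ : adjoin L0 (Set.range a))),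
      IsTranscendenceBasis L0 ((↑) : D → adjoin L0 (Set.range a)) := by
    haveI : Algebra.IsAlgebraic ↥(Algebra.adjoin L0 (Set.range fun j => (⟨a j, subset_adjoin L0 _ ⟨j, rfl⟩⟩ : adjoin L0 (Set.range a))))
        (adjoin L0 (Set.range a)) := by
      refine ⟨fun z => ?_⟩
      obtain ⟨r, hr, s', hs', hz⟩ := (IntermediateField.mem_adjoin_iff_div).1 (show z.1 ∈ adjoin L0 (Set.range a) from z.2)
      have hmap : (Algebra.adjoin L0 (Set.range fun j => (⟨a j, subset_adjoin L0 _ ⟨j, rfl⟩⟩ : adjoin L0 (Set.range a)))).map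
          (adjoin L0 (Set.range a)).val = Algebra.adjoin L0 (Set.range a) := by
        rw [AlgHom.map_adjoin, ← Set.range_comp]
        rfl
      rw [← hmap] at hr hs'
      obtain ⟨r', hr', rfl⟩ := hr
      obtain ⟨s'', hs'', rfl⟩ := hs'
      have hz' : z = r' / s'' := Subtype.ext (by rw [hz]; rfl)
      rw [hz', div_eq_mul_inv]
      exact (isAlgebraic_algebraMap (R := ↥(Algebra.adjoin L0 _)) ⟨r', hr'⟩).mul
        (isAlgebraic_algebraMap (R := ↥(Algebra.adjoin L0 _)) ⟨s'', hs''⟩).inv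
    exact exists_isTranscendenceBasis_subset _
  haveI hDfin : Fintype D := ((Set.finite_range _).subset hDr).fintype
  have hDd : Fintype.card D ≤ d := by
    have := hD.cardinalMk_eq_trdeg.trans_le hd
    rw [Cardinal.mk_fintype] at this
    exact_mod_cast this
  let S : Finset Ω := (Finset.univ.image fun p : Fin (N + 1) × D => φ p.1 (p.2 : F)) ∪
    ((Finset.univ : Finset (Fin d × J)).filter fun p => ¬ Q p).image fun p => iT ⟨T p.1 p.2, hT p.1 p.2⟩
  have hGS : ∀ x ∈ G, IsAlgebraic ↥(Algebra.adjoin L0 (S : Set Ω)) x := by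
    intro x hx
    rcases hx with hx | ⟨p, hp, rfl⟩
    swap
    · exact isAlgebraic_algebraMap (R := ↥(Algebra.adjoin L0 (S : Set Ω)))
        (⟨_, Algebra.subset_adjoin (Finset.mem_coe.2 (Finset.mem_union_right _
          (Finset.mem_image.2 ⟨p, Finset.mem_filter.2 ⟨Finset.mem_univ _, hp⟩, rfl⟩)))⟩ : Algebra.adjoin L0 (S : Set Ω))
    obtain ⟨l, hl⟩ := Set.mem_iUnion.1 hx
    obtain ⟨_, ⟨j, rfl⟩, rfl⟩ := hl
    let R := Algebra.adjoin L0 (Set.range ((↑) : D → adjoin L0 (Set.range a)))
    have halg : IsAlgebraic R (⟨a j, subset_adjoin L0 _ ⟨j, rfl⟩⟩ : adjoin L0 (Set.range a)) :=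
      hD.isAlgebraic.isAlgebraic _
    let ψ : adjoin L0 (Set.range a) →ₐ[L0] Ω := ((φ l).restrictScalars L0).comp (adjoin L0 (Set.range a)).val
    have hψ : ∀ r : R, ψ (r : adjoin L0 (Set.range a)) ∈ Algebra.adjoin L0 (S : Set Ω) := fun r => by
      have h2 : ψ (r : adjoin L0 (Set.range a)) ∈ R.map ψ := ⟨_, r.2, rfl⟩
      rw [AlgHom.map_adjoin, ← Set.range_comp] at h2
      refine Algebra.adjoin_mono ?_ h2
      rintro _ ⟨e, rfl⟩
      exact Finset.mem_coe.2 (Finset.mem_union_left _ (Finset.mem_image.2 ⟨(l, e), Finset.mem_univ _, rfl⟩))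
    let g : R →+* Algebra.adjoin L0 (S : Set Ω) :=
      ((ψ.comp R.val).toRingHom).codRestrict (Algebra.adjoin L0 (S : Set Ω)) hψ
    exact halg.ringHom_of_comp_eq g ψ.toRingHom
      (fun r r' h => Subtype.ext (ψ.toRingHom.injective (congrArg Subtype.val h))) (RingHom.ext fun r => rfl)
  -- the independent family
  let f : (Fin (N + 1) × B) ⊕ C → Ω := Sum.elim (fun p => algebraMap P Ω (MvPolynomial.X p)) fun c => iT c.1
  have hfi : AlgebraicIndependent L0 f := hC.1.sumElim_comp hW
  have hfG : ∀ i, f i ∈ adjoin L0 G := by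
    rintro (⟨l, b, hb⟩ | ⟨c, hc⟩)
    swap
    · obtain ⟨p, rfl⟩ := hCr hc
      exact hTG p.1 p.2
    · obtain ⟨j, rfl⟩ := hBr hb
      change algebraMap P Ω (MvPolynomial.X (l, (⟨a j, hb⟩ : B))) ∈ _
      rw [← hφb l ⟨a j, hb⟩]
      exact subset_adjoin L0 _ (Or.inl (Set.mem_iUnion.2 ⟨l, _, ⟨j, rfl⟩, rfl⟩))
  haveI := Fintype.ofFinite C
  haveI := Fintype.ofFinite B
  have hmain := card_le_of_gen S G hGS f hfG hfi
  rw [Fintype.card_sum, Fintype.card_prod, Fintype.card_fin] at hmain
  have hS : S.card ≤ (N + 1) * d + d * (Fintype.card J - (N + 1)) := by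
    refine (Finset.card_union_le _ _).trans (add_le_add (Finset.card_image_le.trans ?_) (Finset.card_image_le.trans ?_))
    · rw [Finset.card_univ, Fintype.card_prod, Fintype.card_fin]
      exact Nat.mul_le_mul_left _ hDd
    · have : (Finset.univ : Finset (Fin d × J)).filter (fun p => ¬ Q p) =
          Finset.univ ×ˢ (Finset.univ.image (q j₀))ᶜ := by ext p; simp [Q]
      rw [this, Finset.card_product, Finset.card_compl, Finset.card_image_of_injective _ (hq j₀), Finset.card_univ,
        Finset.card_univ, Fintype.card_fin, Fintype.card_fin]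
  have hNJ : N + 1 ≤ Fintype.card J := by simpa using Fintype.card_le_of_injective _ (hq j₀)
  have hsum : (N + 1) * d + d * (Fintype.card J - (N + 1)) = d * Fintype.card J := by
    rw [mul_comm (N + 1) d, ← mul_add, Nat.add_sub_cancel' hNJ]
  rw [← hBcard, Nat.card_eq_fintype_card (α := B), show t = Fintype.card C from Nat.card_eq_fintype_card]
  omega

end Groth.Agent.Multisec
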