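import Groth.Agent.Multisec.Points
import Groth.Agent.CycDim.RelDim
import Groth.Prelude.Def_Dual3

/-!
General forms cut finite sets in the fibres.
-/

set_option autoImplicit false
set_option backward.isDefEq.respectTransparency false
set_option backward.isDefEq.respectTransparency.types false
set_option linter.style.haveILetI false
set_option maxHeartbeats 1000000
set_option synthInstance.maxHeartbeats 100000

universe u

open CategoryTheory CategoryTheory.Limits AlgebraicGeometry TopologicalSpace Opposite IsLocalRing IntermediateField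
open Groth.Agent.Unibranch (ChainsLE HasChain IsChain')

noncomputable section

namespace Groth.Agent.Multisec

section FibreDim

variable {X Y : Scheme.{u}} {π : X ⟶ Y} [IsLocallyNoetherian Y] [LocallyOfFiniteType π] {d : ℕ}

lemma resTrdeg_le (hd : ∀ y : Y, topologicalKrullDim (↥(π.fiber y) : Type u) = d) (x : X) :
    Dual3.resTrdeg π x ≤ (d : Cardinal.{u}) := by
  obtain ⟨m, hm, hle, hge⟩ := CycDim.exists_trdeg π x
  have hw := π.fiberι_asFiber x
  have h1 := CycDim.topologicalKrullDim_closure_fiber π (π.asFiber x) (d := m) (by rwa [hw]) (by rwa [hw])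
  have h2 : topologicalKrullDim ↥(closure ({π.asFiber x} : Set (π.fiber (π x)))) ≤ (d : WithBot ℕ∞) :=
    (hd (π x)) ▸ Topology.IsEmbedding.subtypeVal.topologicalKrullDim_le
  rw [h1] at h2
  rw [hm]
  exact_mod_cast h2

lemma exists_resTrdeg_eq (hd : ∀ y : Y, topologicalKrullDim (↥(π.fiber y) : Type u) = d) (y : Y) :
    ∃ x, π x = y ∧ Dual3.resTrdeg π x = (d : Cardinal.{u}) := by
  have hr : Set.range (π.fiberι y) = Set.univ ∩ π ⁻¹' {y} := by rw [Set.univ_inter, Scheme.Hom.range_fiberι]
  obtain ⟨c, hc, hcc⟩ :=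
    (Unibranch.natCast_le_topologicalKrullDim_iff π (π.fiberι y).isEmbedding hr).1 (hd y).ge
  refine ⟨c 0, (hc 0).2, ?_⟩
  obtain ⟨m, hm, hle, -⟩ := CycDim.exists_trdeg π (c 0)
  rw [(hc 0).2] at hle
  have hspec : ∀ i, c 0 ⤳ c i := fun i => by
    induction i using Fin.induction with
    | zero => exact specializes_rfl
    | succ i ih => exact ih.trans (hcc i).1
  have : d ≤ m := HasChain.le ⟨c, fun i => ⟨specializes_iff_mem_closure.1 (hspec i), (hc i).2⟩, hcc⟩ hle
  refine le_antisymm (resTrdeg_le hd (c 0)) ?_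
  rw [hm]
  exact_mod_cast this

end FibreDim

variable {k : Type u} [Field k] {n : ℕ} {X Y : Scheme.{u}} (e : X ⟶ CohB1.ProjSpace n k)
  {sX : X ⟶ Spec (CommRingCat.of k)} {sY : Y ⟶ Spec (CommRingCat.of k)} (π : X ⟶ Y)

lemma kF_congr {F : Type u} [Field F] {W : Scheme.{u}} (sW : W ⟶ Spec (CommRingCat.of k))
    {h h' : Spec (CommRingCat.of F) ⟶ W} (eh : h = h') : kF sW h = kF sW h' := by rw [eh]

lemma kF_map {F K : Type u} [Field F] [Field K] {W : Scheme.{u}} (sW : W ⟶ Spec (CommRingCat.of k))
    (h : Spec (CommRingCat.of K) ⟶ W) (f : CommRingCat.of K ⟶ CommRingCat.of F) :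
    kF sW (Spec.map f ≫ h) = f.hom.comp (kF sW h) := by
  have : CommRingCat.ofHom (kF sW (Spec.map f ≫ h)) = CommRingCat.ofHom (kF sW h) ≫ f := by
    apply Spec.map_injective
    rw [Spec.map_comp, specMap_kF, specMap_kF, Category.assoc]
  exact congrArg CommRingCat.Hom.hom this

lemma kF_comp {F : Type u} [Field F] (hπ : π ≫ sY = sX) (q : Spec (CommRingCat.of F) ⟶ X) :
    kF sY (q ≫ π) = kF sX q := by
  have : CommRingCat.ofHom (kF sY (q ≫ π)) = CommRingCat.ofHom (kF sX q) := by
    apply Spec.map_injective
    rw [specMap_kF, specMap_kF, Category.assoc, hπ]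
  exact congrArg CommRingCat.Hom.hom this

lemma fromSpecResidueField_comp_map {W W' : Scheme.{u}} (f : W ⟶ W') (x : W) :
    W.fromSpecResidueField x ≫ f = Spec.map (f.residueFieldMap x) ≫ W'.fromSpecResidueField (f x) :=
  (Scheme.Hom.SpecMap_residueFieldMap_fromSpecResidueField f x).symm

variable [IsClosedImmersion e] (hsX : e ≫ CohB1.ProjSpace.toSpec n k = sX) {d : ℕ}

include hsX in
/-- With coefficients independent over the ground field, the common zeros have residue fields algebraic
over those of their images. -/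
theorem resTrdeg_eq_zero_of_generic (hπ : π ≫ sY = sX) (hdx : ∀ x, Dual3.resTrdeg π x ≤ (d : Cardinal.{u}))
    (z : 𝔸(Coef.{u} n d (n + 1); X)) (hz : z ∈ Zset e d (n + 1))
    (hgen : AffineSpace.map (Coef.{u} n d (n + 1)) sX z =
      genericPoint 𝔸(Coef.{u} n d (n + 1); Spec (CommRingCat.of k))) :
    Dual3.resTrdeg (AffineSpace.map (Coef.{u} n d (n + 1)) π) z = 0 := by
  let σ := Coef.{u} n d (n + 1)
  let P := 𝔸(σ; X)
  let pr : P ⟶ X := 𝔸(σ; X) ↘ X
  let F : Type u := P.residueField z
  let h : Spec (CommRingCat.of F) ⟶ P := P.fromSpecResidueField z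
  have hcp : h (closedPoint F) = z := Scheme.fromSpecResidueField_apply _ _
  let x : X := pr z
  let q : Spec (CommRingCat.of F) ⟶ X := h ≫ pr
  have hq : q = Spec.map (pr.residueFieldMap z) ≫ X.fromSpecResidueField x := fromSpecResidueField_comp_map pr z
  obtain ⟨i, hi⟩ := exists_mem_U e (q (closedPoint F))
  have hxi : (X.fromSpecResidueField x) (closedPoint (X.residueField x)) ∈ U e i := by
    rw [Scheme.fromSpecResidueField_apply]
    convert hi using 1
    rw [Scheme.Hom.comp_apply, hcp]
  let qy : Spec (CommRingCat.of (Y.residueField (π x))) ⟶ Y := Y.fromSpecResidueField (π x)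
  let ψ : Y.residueField (π x) →+* X.residueField x := (π.residueFieldMap x).hom
  let φ : X.residueField x →+* F := (pr.residueFieldMap z).hom
  letI : Algebra (Y.residueField (π x)) (X.residueField x) := ψ.toAlgebra
  letI : Algebra (X.residueField x) F := φ.toAlgebra
  letI : Algebra (Y.residueField (π x)) F := (φ.comp ψ).toAlgebra
  haveI : IsScalarTower (Y.residueField (π x)) (X.residueField x) F := IsScalarTower.of_algebraMap_eq' rfl
  letI : Algebra k (Y.residueField (π x)) := (kF sY qy).toAlgebra
  letI : Algebra k (X.residueField x) := (ψ.comp (kF sY qy)).toAlgebra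
  letI : Algebra k F := ((φ.comp ψ).comp (kF sY qy)).toAlgebra
  haveI : IsScalarTower k (Y.residueField (π x)) (X.residueField x) := IsScalarTower.of_algebraMap_eq' rfl
  haveI : IsScalarTower k (Y.residueField (π x)) F := IsScalarTower.of_algebraMap_eq' rfl
  have hkx : (algebraMap k (X.residueField x)) = kF sX (X.fromSpecResidueField x) := by
    rw [← kF_comp π hπ, kF_congr sY (fromSpecResidueField_comp_map π x), kF_map]
    rfl
  have hkF : algebraMap k F = kF sX q := by
    rw [kF_congr sX hq, kF_map, ← hkx]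
    rfl
  let a : Fin (n + 1) → F := fun j => evF q _ hi (ratio e i j)
  let a' : Fin (n + 1) → X.residueField x := fun j => evF (X.fromSpecResidueField x) _ hxi (ratio e i j)
  have ha : ∀ j, a j = φ (a' j) := fun j => by
    simp only [a]
    rw [evF_congr hq]
    exact evF_map (pr.residueFieldMap z) (X.fromSpecResidueField x) _ _ _ _
  let T : Fin d → Idx n (n + 1) → F := fun l J => cF h ⟨(l, J)⟩
  let u : Idx n (n + 1) → F := fun J => evF q _ hi (mono e (n + 1) i J)
  -- forms vanish
  have hrel : ∀ l, ∑ J, T l J * u J = 0 := (mem_Zset_iff e d (n + 1) h hi).1 (by rw [hcp]; exact hz)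
  -- generation
  have hgenF : adjoin (Y.residueField (π x))
      (Set.range (fun p : Fin d × Idx n (n + 1) => T p.1 p.2) ∪ Set.range a) = ⊤ := by
    refine IntermediateField.toSubfield_injective ?_
    refine gen_z e hsX z hi _ (fun c => ?_) (fun j => ?_) (fun J => ?_)
    · rw [show kF sX (P.fromSpecResidueField z ≫ pr) c = algebraMap (Y.residueField (π x)) F (kF sY qy c) from
        (RingHom.congr_fun hkF c).symm]
      exact IntermediateField.algebraMap_mem _ _
    · exact subset_adjoin _ _ (Or.inr ⟨j, rfl⟩)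
    · exact subset_adjoin _ _ (Or.inl ⟨J.down, rfl⟩)
  -- the point in its fibre
  have hd' : Algebra.trdeg (Y.residueField (π x)) ↥(adjoin (Y.residueField (π x)) (Set.range a)) ≤ d := by
    let Φ : X.residueField x →ₐ[Y.residueField (π x)] F := IsScalarTower.toAlgHom _ _ _
    have hle : adjoin (Y.residueField (π x)) (Set.range a) ≤ Φ.fieldRange := by
      rw [adjoin_le_iff]
      rintro _ ⟨j, rfl⟩
      exact ⟨a' j, (ha j).symm⟩
    refine (trdeg_le_of_injective (IntermediateField.inclusion hle)
      (IntermediateField.inclusion hle).toRingHom.injective).trans ?_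
    refine le_trans (le_of_eq ?_) (hdx x)
    exact ((AlgEquiv.ofInjectiveField Φ).trdeg_eq).symm
  -- the base point
  have hk' : Algebra.trdeg k (Y.residueField (π x)) ≤ (n + 1 : ℕ) := by
    refine (trdeg_le_of_injective (IsScalarTower.toAlgHom k (Y.residueField (π x)) (X.residueField x))
      (RingHom.injective _)).trans ?_
    have htop : adjoin k (Set.range a') = ⊤ := by
      refine IntermediateField.toSubfield_injective (gen_x e hsX x hxi _ (fun c => ?_) (fun j => ?_))
      · rw [← hkx]
        exact IntermediateField.algebraMap_mem _ _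
      · exact subset_adjoin _ _ ⟨j, rfl⟩
    haveI : Algebra.IsAlgebraic (Algebra.adjoin k (Set.range a')) (X.residueField x) := ⟨fun b => by
      obtain ⟨r, hr, s, hs, hb⟩ := IntermediateField.mem_adjoin_iff_div.1 (htop ▸ IntermediateField.mem_top (x := b))
      rw [hb, div_eq_mul_inv]
      exact (isAlgebraic_algebraMap (R := ↥(Algebra.adjoin k (Set.range a'))) (A := X.residueField x) ⟨r, hr⟩).mul
        (isAlgebraic_algebraMap (R := ↥(Algebra.adjoin k (Set.range a'))) (A := X.residueField x) ⟨s, hs⟩).inv⟩
    refine (Algebra.IsAlgebraic.trdeg_le_cardinalMk k (Set.range a')).trans ?_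
    have := Cardinal.mk_range_le_lift (f := a')
    simpa using this
  -- independence of the coefficients
  have hT : AlgebraicIndependent k fun p : Fin d × Idx n (n + 1) => T p.1 p.2 := by
    let h' : Spec (CommRingCat.of F) ⟶ 𝔸(σ; Spec (CommRingCat.of k)) := h ≫ AffineSpace.map σ sX
    have hb : h' ≫ (𝔸(σ; Spec (CommRingCat.of k)) ↘ Spec (CommRingCat.of k)) =
        Spec.map (CommRingCat.ofHom (algebraMap k F)) := by
      rw [hkF, specMap_kF, Category.assoc, AffineSpace.map_over]
      exact (Category.assoc _ _ _).symm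
    have h1 := (apply_closedPoint_eq_generic_iff h' hb).1 (by rw [Scheme.Hom.comp_apply, hcp]; exact hgen)
    have h2 : (fun j => cF h' j) = fun j => cF h j := funext fun j => cF_comp_map sX h j
    change AlgebraicIndependent k fun j => cF h' j at h1
    rw [h2] at h1
    exact h1.comp ULift.up ULift.up_injective
  have halg := isAlgebraic_of_count (N := n + 1) a T u
    (fun J => by
      simp only [u, mono, map_mul, map_pow]
      exact mul_mem (pow_mem (subset_adjoin (Y.residueField (π x)) (Set.range a) ⟨J.1, rfl⟩) _)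
        (pow_mem (subset_adjoin (Y.residueField (π x)) (Set.range a) ⟨J.2.1, rfl⟩) _))
    (fun j l => ((i, j, l) : Idx n (n + 1))) (fun j l l' hll => (Prod.ext_iff.1 (Prod.ext_iff.1 hll).2).2)
    (fun j l => by simp only [u, a]; rw [mono_pow, map_pow]) hrel hgenF hd' hk' hT _ rfl
  -- comparison with the residue field of the image
  let g := AffineSpace.map σ π
  let β := g.residueFieldMap z
  have hover : h ≫ g = Spec.map β ≫ (𝔸(σ; Y)).fromSpecResidueField (g z) := fromSpecResidueField_comp_map g z
  have hr0 : Set.range (φ.comp ψ) ⊆ Set.range β := by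
    refine range_subset_of_eq (F := F) (K := (𝔸(σ; Y)).residueField (g z))
      (π.residueFieldMap x ≫ pr.residueFieldMap z) β
      ((𝔸(σ; Y)).fromSpecResidueField (g z) ≫ (𝔸(σ; Y) ↘ Y)) ?_
    rw [Spec.map_comp, Category.assoc, ← fromSpecResidueField_comp_map π x, ← Category.assoc, ← hq,
      ← Category.assoc, ← hover]
    simp only [q, pr, g, Category.assoc, AffineSpace.map_over]
  let L' := adjoin (Y.residueField (π x)) (Set.range fun p : Fin d × Idx n (n + 1) => T p.1 p.2)
  have hsub : L'.toSubfield ≤ β.hom.fieldRange := by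
    refine Subfield.closure_le.2 (Set.union_subset ?_ ?_)
    · intro c hc
      exact hr0 hc
    · rintro _ ⟨p, rfl⟩
      refine ⟨cF ((𝔸(σ; Y)).fromSpecResidueField (g z)) ⟨p⟩, ?_⟩
      exact ((cF_map β _ _).symm.trans ((congrArg (fun t => cF t _) hover).symm.trans (cF_comp_map π h _)))
  unfold Dual3.resTrdeg
  letI : Algebra ((𝔸(σ; Y)).residueField (g z)) F := β.hom.toAlgebra
  change Algebra.trdeg ((𝔸(σ; Y)).residueField (g z)) F = 0
  rw [trdeg_eq_zero_iff]
  let eβ := RingEquiv.ofBijective β.hom.rangeRestrictField β.hom.rangeRestrictField_bijective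
  let ι : L' →+* (𝔸(σ; Y)).residueField (g z) := eβ.symm.toRingHom.comp (Subfield.inclusion hsub)
  letI : Algebra L' ((𝔸(σ; Y)).residueField (g z)) := ι.toAlgebra
  haveI : IsScalarTower L' ((𝔸(σ; Y)).residueField (g z)) F := IsScalarTower.of_algebraMap_eq fun c => by
    change (c : F) = β.hom (eβ.symm (Subfield.inclusion hsub c))
    exact (congrArg Subtype.val (eβ.apply_symm_apply (Subfield.inclusion hsub c))).symm
  haveI := halg
  exact Algebra.IsAlgebraic.tower_top (K := L') _

end Groth.Agent.Multisec
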