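import Groth.Agent.Multisec.Count

/-!
The two consequences of the counting inequality: general forms cut finite sets in fibres, and they do have
common zeros over the generic point with independent coefficients.
-/

set_option autoImplicit false
set_option linter.style.haveILetI false
set_option maxHeartbeats 1000000
set_option synthInstance.maxHeartbeats 100000

universe u

open MvPolynomial IntermediateField

namespace Groth.Agent.Multisec

/-- General forms cut finite sets: with coefficients independent over the ground field `k`, a common zero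
is algebraic over the base point with the coefficients adjoined. -/
theorem isAlgebraic_of_count {k L0 F : Type u} [Field k] [Field L0] [Field F] [Algebra k L0] [Algebra k F]
    [Algebra L0 F] [IsScalarTower k L0 F] {d N n : ℕ} {J : Type} [Fintype J] (a : Fin n → F) (T : Fin d → J → F)
    (u : J → F) (hu : ∀ J', u J' ∈ adjoin L0 (Set.range a))
    (q : Fin n → Fin (N + 1) → J) (hq : ∀ j, Function.Injective (q j))
    (huq : ∀ j l, u (q j l) = a j ^ (l : ℕ))
    (hrel : ∀ l, ∑ J', T l J' * u J' = 0)
    (hgen : adjoin L0 (Set.range (fun p : Fin d × J => T p.1 p.2) ∪ Set.range a) = ⊤)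
    (hd : Algebra.trdeg L0 ↥(adjoin L0 (Set.range a)) ≤ d)
    (hk : Algebra.trdeg k L0 ≤ N) (hT : AlgebraicIndependent k fun p : Fin d × J => T p.1 p.2)
    (L' : IntermediateField L0 F) (hL' : L' = adjoin L0 (Set.range fun p : Fin d × J => T p.1 p.2)) :
    Algebra.IsAlgebraic L' F := by
  obtain ⟨t, s, ht, hs, h⟩ := count a T u hu q hq huq hrel hgen hd L' hL'
  let T' : Fin d × J → L' := fun p => ⟨T p.1 p.2, hL' ▸ subset_adjoin L0 _ ⟨p, rfl⟩⟩
  haveI : IsScalarTower k L' F := IsScalarTower.of_algebraMap_eq fun c => by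
    rw [IsScalarTower.algebraMap_apply k L0 L' c, ← IsScalarTower.algebraMap_apply L0 L' F, ← IsScalarTower.algebraMap_apply k L0 F]
  have hT' : AlgebraicIndependent k T' := AlgebraicIndependent.of_comp (IsScalarTower.toAlgHom k L' F) hT
  have h1 := hT'.lift_cardinalMk_le_trdeg
  have h2 : Algebra.trdeg k L0 + Algebra.trdeg L0 L' = Algebra.trdeg k L' := trdeg_add_eq k L0 (A := L')
  obtain ⟨e, he⟩ : ∃ e : ℕ, Algebra.trdeg k L0 = e :=
    Cardinal.lt_aleph0.1 (hk.trans_lt (Cardinal.natCast_lt_aleph0))
  rw [he] at hk h2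
  rw [ht, ← Nat.cast_add] at h2
  rw [← h2, Cardinal.mk_fintype, Cardinal.lift_natCast, Cardinal.lift_natCast] at h1
  have he' : e ≤ N := by exact_mod_cast hk
  have h1' : d * Fintype.card J ≤ e + t := by
    have : Fintype.card (Fin d × J) ≤ e + t := by exact_mod_cast h1
    rwa [Fintype.card_prod, Fintype.card_fin] at this
  have hs0 : s = 0 := by
    rcases h with h | h
    · exact h
    · rcases Nat.eq_zero_or_pos s with h0 | h0
      · exact h0
      · nlinarith
  subst hs0
  rw [Nat.cast_zero] at hs
  exact trdeg_eq_zero_iff.1 hs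

/-- Common zeros with coefficients independent over the base point. -/
theorem exists_zero {L0 E : Type u} [Field L0] [Field E] [Algebra L0 E] {d N n : ℕ} (hN : 0 < N) {J : Type}
    [Fintype J] (a : Fin n → E) (ha : adjoin L0 (Set.range a) = ⊤) (u : J → E)
    (q : Fin n → Fin (N + 1) → J) (hq : ∀ j, Function.Injective (q j))
    (huq : ∀ j l, u (q j l) = a j ^ (l : ℕ)) (J₀ : J) (hJ₀ : u J₀ = 1)
    (hd : Algebra.trdeg L0 E = d) :
    ∃ (F : Type u) (_ : Field F) (_ : Algebra E F) (_ : Algebra L0 F) (_ : IsScalarTower L0 E F)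
      (T : Fin d → J → F), (∀ l, ∑ J', T l J' * algebraMap E F (u J') = 0) ∧
        AlgebraicIndependent L0 fun p : Fin d × J => T p.1 p.2 := by
  classical
  let σ := {p : Fin d × J // p.2 ≠ J₀}
  let F := FractionRing (MvPolynomial σ E)
  let x : σ → F := fun p => algebraMap (MvPolynomial σ E) F (X p)
  let rest : Fin d → F := fun l =>
    ∑ J' : J, if h : J' = J₀ then 0 else x ⟨(l, J'), h⟩ * algebraMap E F (u J')
  let T : Fin d → J → F := fun l J' => if h : J' = J₀ then - rest l else x ⟨(l, J'), h⟩
  have hrel : ∀ l, ∑ J', T l J' * algebraMap E F (u J') = 0 := by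
    intro l
    rw [← Finset.add_sum_erase Finset.univ _ (Finset.mem_univ J₀)]
    simp only [T, dif_pos, hJ₀, map_one, mul_one]
    rw [neg_add_eq_zero]
    simp only [rest]
    rw [← Finset.add_sum_erase Finset.univ _ (Finset.mem_univ J₀), dif_pos rfl, zero_add]
    exact Finset.sum_congr rfl fun J' hJ' => by
      rw [dif_neg (Finset.ne_of_mem_erase hJ'), dif_neg (Finset.ne_of_mem_erase hJ')]
  let aF : Fin n → F := fun j => algebraMap E F (a j)
  have hu : ∀ J', algebraMap E F (u J') ∈ adjoin L0 (Set.range aF) := fun J' => by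
    have h1 : algebraMap E F (u J') ∈ (adjoin L0 (Set.range a)).map (IsScalarTower.toAlgHom L0 E F) :=
      ⟨u J', by rw [ha]; exact mem_top, rfl⟩
    rwa [IntermediateField.adjoin_map, ← Set.range_comp] at h1
  have hEmem : ∀ e : E, algebraMap E F e ∈ adjoin L0 (Set.range aF) := fun e => by
    have h1 : algebraMap E F e ∈ (adjoin L0 (Set.range a)).map (IsScalarTower.toAlgHom L0 E F) :=
      ⟨e, by rw [ha]; exact mem_top, rfl⟩
    rwa [IntermediateField.adjoin_map, ← Set.range_comp] at h1
  have hgen : adjoin L0 (Set.range (fun p : Fin d × J => T p.1 p.2) ∪ Set.range aF) = ⊤ := by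
    set W := adjoin L0 (Set.range (fun p : Fin d × J => T p.1 p.2) ∪ Set.range aF)
    have hX : ∀ p : σ, x p ∈ W := fun p => subset_adjoin L0 _ (Or.inl ⟨p.1, dif_neg p.2⟩)
    have hE : ∀ e : E, algebraMap E F e ∈ W := fun e =>
      adjoin.mono L0 _ _ Set.subset_union_right (hEmem e)
    have hpol : ∀ P : MvPolynomial σ E, algebraMap (MvPolynomial σ E) F P ∈ W := by
      intro P
      induction P using MvPolynomial.induction_on with
      | C e => rw [← MvPolynomial.algebraMap_eq, ← IsScalarTower.algebraMap_apply]; exact hE e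
      | add p q hp hq => rw [map_add]; exact add_mem hp hq
      | mul_X p i hp => rw [map_mul]; exact mul_mem hp (hX i)
    rw [eq_top_iff]
    intro z _
    obtain ⟨r, s, -, rfl⟩ := IsFractionRing.div_surjective (MvPolynomial σ E) z
    exact div_mem (hpol r) (hpol s)
  have hda : Algebra.trdeg L0 ↥(adjoin L0 (Set.range aF)) ≤ d := by
    rw [← hd]
    have h1 : adjoin L0 (Set.range aF) = (IsScalarTower.toAlgHom L0 E F).fieldRange := by
      rw [AlgHom.fieldRange_eq_map, ← ha, IntermediateField.adjoin_map, ← Set.range_comp]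
      rfl
    rw [h1, (AlgEquiv.ofInjectiveField (IsScalarTower.toAlgHom L0 E F)).trdeg_eq]
    rfl
  obtain ⟨t, s, ht, hs, h⟩ := count aF T (fun J' => algebraMap E F (u J')) hu q hq
    (fun j l => by rw [huq, map_pow]) hrel hgen hda _ rfl
  have hcard : Fintype.card σ + d = d * Fintype.card J := by
    have h0 : Fintype.card σ = d * (Fintype.card J - 1) := by
      rw [Fintype.card_subtype, show Finset.univ.filter (fun p : Fin d × J => p.2 ≠ J₀) =
        Finset.univ ×ˢ (Finset.univ.erase J₀) by ext p; simp]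
      rw [Finset.card_product, Finset.card_univ, Fintype.card_fin, Finset.card_erase_of_mem (Finset.mem_univ J₀),
        Finset.card_univ]
    rw [h0]
    have : 1 ≤ Fintype.card J := Fintype.card_pos_iff.2 ⟨J₀⟩
    nlinarith [Nat.sub_add_cancel this]
  have htot : t + s = d * Fintype.card J := by
    let L' := adjoin L0 (Set.range fun p : Fin d × J => T p.1 p.2)
    have h1 : Algebra.trdeg L0 L' + Algebra.trdeg L' F = Algebra.trdeg L0 F := trdeg_add_eq L0 L' (A := F)
    have h2 : Algebra.trdeg L0 E + Algebra.trdeg E F = Algebra.trdeg L0 F := trdeg_add_eq L0 E (A := F)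
    haveI : Algebra.IsAlgebraic (MvPolynomial σ E) F := ⟨fun z => by
      obtain ⟨r, s, -, rfl⟩ := IsFractionRing.div_surjective (MvPolynomial σ E) z
      rw [div_eq_mul_inv]
      exact (isAlgebraic_algebraMap r).mul (isAlgebraic_algebraMap s).inv⟩
    have h3 : Algebra.trdeg E F = (Fintype.card σ : Cardinal.{u}) := by
      rw [← trdeg_add_eq E (MvPolynomial σ E) (A := F), trdeg_eq_zero (R := MvPolynomial σ E) (A := F), add_zero,
        MvPolynomial.trdeg_of_isDomain, Cardinal.mk_fintype, Cardinal.lift_natCast]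
    rw [← h2, hd, h3, ht, hs] at h1
    have : t + s = d + Fintype.card σ := by exact_mod_cast h1
    omega
  have hs0 : s = 0 := by
    rcases h with h | h
    · exact h
    · rcases Nat.eq_zero_or_pos s with h0 | h0
      · exact h0
      · nlinarith
  refine ⟨F, inferInstance, inferInstance, inferInstance, inferInstance, T, hrel, ?_⟩
  let T' : Fin d × J → adjoin L0 (Set.range fun p : Fin d × J => T p.1 p.2) :=
    fun p => ⟨T p.1 p.2, subset_adjoin L0 _ ⟨p, rfl⟩⟩
  haveI : Algebra.IsAlgebraic ↥(Algebra.adjoin L0 (Set.range T'))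
      ↥(adjoin L0 (Set.range fun p : Fin d × J => T p.1 p.2)) := by
    refine ⟨fun z => ?_⟩
    obtain ⟨r, hr, s', hs', hz⟩ := (IntermediateField.mem_adjoin_iff_div).1 z.2
    have hmap : (Algebra.adjoin L0 (Set.range T')).map (adjoin L0 (Set.range fun p : Fin d × J => T p.1 p.2)).val =
        Algebra.adjoin L0 (Set.range fun p : Fin d × J => T p.1 p.2) := by
      rw [AlgHom.map_adjoin, ← Set.range_comp]
      rfl
    rw [← hmap] at hr hs'
    obtain ⟨r', hr', rfl⟩ := hr
    obtain ⟨s'', hs'', rfl⟩ := hs'
    have hz' : z = r' / s'' := Subtype.ext (by rw [hz]; rfl)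
    rw [hz', div_eq_mul_inv]
    exact (isAlgebraic_algebraMap (R := ↥(Algebra.adjoin L0 _)) ⟨r', hr'⟩).mul
      (isAlgebraic_algebraMap (R := ↥(Algebra.adjoin L0 _)) ⟨s'', hs''⟩).inv
  have hbase := Algebra.IsAlgebraic.isTranscendenceBasis_of_lift_le_trdeg_of_finite L0 T' (by
    rw [ht, Cardinal.mk_fintype, Cardinal.lift_natCast, Cardinal.lift_natCast, Fintype.card_prod, Fintype.card_fin]
    exact_mod_cast (show d * Fintype.card J ≤ t by omega))
  exact hbase.1.map' (f := (adjoin L0 (Set.range fun p : Fin d × J => T p.1 p.2)).val) Subtype.val_injective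

end Groth.Agent.Multisec
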