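import Groth.Agent.Multisec.Fibre
import Groth.Agent.SpQS.TrdegQF
import Groth.Agent.SepDegree.Basic

/-!
Finite surjective multisections of an equidimensional morphism out of a projective variety.
-/

set_option autoImplicit false
set_option backward.isDefEq.respectTransparency false
set_option backward.isDefEq.respectTransparency.types false
set_option linter.style.haveILetI false
set_option maxHeartbeats 1000000
set_option synthInstance.maxHeartbeats 100000

universe u

open CategoryTheory CategoryTheory.Limits AlgebraicGeometry TopologicalSpace Opposite IsLocalRing IntermediateField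

noncomputable section

namespace Groth.Agent.Multisec

/-- Points of a fibre all algebraic over the base point: the morphism is quasi-finite there. -/
lemma quasiFiniteAt_of_forall_resTrdeg {U V : Scheme.{u}} [IsLocallyNoetherian V] (f : U ⟶ V) [LocallyOfFiniteType f]
    [QuasiCompact f] {y : V} (h0 : ∀ w, f w = y → Dual3.resTrdeg f w = 0) {x : U} (hx : f x = y) :
    f.QuasiFiniteAt x := by
  refine SepDegree.quasiFiniteAt_of_finite_fibre (f := f) ?_ hx
  haveI : LocallyOfFiniteType (f.fiberToSpecResidueField y) :=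
    inferInstanceAs (LocallyOfFiniteType (pullback.snd f (V.fromSpecResidueField _)))
  haveI : IsLocallyNoetherian (f.fiber y) :=
    LocallyOfFiniteType.isLocallyNoetherian (f.fiberToSpecResidueField y)
  haveI : IsNoetherian (f.fiber y) := {}
  have hspec : ∀ a b : f.fiber y, a ⤳ b → a = b := by
    intro a b hab
    by_contra hne
    have hy : ∀ v : f.fiber y, f (f.fiberι y v) = y := fun v => by
      have : f.fiberι y v ∈ Set.range (f.fiberι y) := ⟨v, rfl⟩
      rwa [Scheme.Hom.range_fiberι] at this
    obtain ⟨m, hm, hle, -⟩ := CycDim.exists_trdeg f (f.fiberι y a)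
    rw [h0 _ (hy a)] at hm
    have hm0 : m = 0 := by exact_mod_cast hm.symm
    subst hm0
    rw [hy a] at hle
    have hι := hab.map (f.fiberι y).continuous
    have := hle 1 ![f.fiberι y a, f.fiberι y b] (fun i => ?_) (fun i => ?_)
    · omega
    · fin_cases i
      · exact ⟨subset_closure rfl, hy a⟩
      · exact ⟨specializes_iff_mem_closure.1 hι, hy b⟩
    · fin_cases i
      exact ⟨hι, fun e => hne ((f.fiberι y).isEmbedding.injective e)⟩
  have hfin : Finite (f.fiber y) := by
    refine Set.finite_univ_iff.1 ?_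
    refine Set.Finite.of_finite_image (f := fun v : f.fiber y => closure ({v} : Set (f.fiber y))) ?_ ?_
    · refine (NoetherianSpace.finite_irreducibleComponents (α := f.fiber y)).subset ?_
      rintro _ ⟨v, -, rfl⟩
      refine ⟨isIrreducible_singleton.closure, fun s hs hle => ?_⟩
      obtain ⟨w, hw⟩ := QuasiSober.sober hs.closure isClosed_closure
      have : w = v := hspec w v (hw.specializes (subset_closure (hle (subset_closure rfl))))
      subst this
      intro t ht
      show t ∈ closure {w}
      rw [hw.def]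
      exact subset_closure ht
    · intro v _ w _ hvw
      change closure {v} = closure {w} at hvw
      exact hspec v w (specializes_iff_mem_closure.2 (by rw [hvw]; exact subset_closure rfl))
  rw [← f.range_fiberι]
  exact Set.finite_range _

/-- All points of a fibre quasi-finite: the fibre is finite. -/
lemma finite_preimage_of_forall_quasiFiniteAt {U V : Scheme.{u}} (f : U ⟶ V) [LocallyOfFiniteType f] [QuasiCompact f]
    {y : V} (h : ∀ w, f w = y → f.QuasiFiniteAt w) : (f ⁻¹' {y}).Finite := by
  have hd : DiscreteTopology (f.fiber y) := discreteTopology_iff_isOpen_singleton.2 fun v => by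
    have hy : f (f.fiberι y v) = y := by
      have : f.fiberι y v ∈ Set.range (f.fiberι y) := ⟨v, rfl⟩
      rwa [Scheme.Hom.range_fiberι] at this
    have := Scheme.Hom.quasiFiniteAt_iff_isOpen_singleton_asFiber.1 (h _ hy)
    generalize hw : f.fiberι y v = w at hy this
    subst hy
    rwa [show v = f.asFiber w from (f.fiberι _).isEmbedding.injective (hw.trans (f.fiberι_asFiber w).symm)]
  haveI : Finite (f.fiber y) := finite_of_compact_of_discrete
  rw [← f.range_fiberι]
  exact Set.finite_range _

lemma ptA_map_over {σ : Type u} {F : Type u} [Field F] {S T : Scheme.{u}} (f : S ⟶ T)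
    (q : Spec (CommRingCat.of F) ⟶ S) (c : σ → F) :
    (ptA q c ≫ AffineSpace.map σ f) ≫ 𝔸(σ; T) ↘ T = q ≫ f := by
  rw [Category.assoc, AffineSpace.map_over, ← Category.assoc, ptA_over]

variable {k : Type u} [Field k] {n : ℕ} {X Y : Scheme.{u}} (e : X ⟶ CohB1.ProjSpace n k) [IsClosedImmersion e]
  {sX : X ⟶ Spec (CommRingCat.of k)} {sY : Y ⟶ Spec (CommRingCat.of k)} (π : X ⟶ Y) {d : ℕ}
  (hsX : e ≫ CohB1.ProjSpace.toSpec n k = sX) (hπ : π ≫ sY = sX)

include hsX hπ in
/-- Over the generic point there is a common zero with coefficients algebraically independent over it. -/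
theorem image_Zset [IsIntegral Y] [IsProper π]
    (hd : ∃ x, π x = genericPoint Y ∧ Dual3.resTrdeg π x = (d : Cardinal.{u})) :
    AffineSpace.map (Coef.{u} n d (n + 1)) π '' Zset e d (n + 1) = Set.univ := by
  let σ := Coef.{u} n d (n + 1)
  let g := AffineSpace.map σ π
  haveI : IsProper g :=
    MorphismProperty.of_isPullback (P := @IsProper) (AffineSpace.isPullback_map (n := σ) π).flip inferInstance
  obtain ⟨x, hxη, hxd⟩ := hd
  let qx := X.fromSpecResidueField x
  let qy := Y.fromSpecResidueField (π x)
  obtain ⟨i, hi⟩ := exists_mem_U e (qx (closedPoint (X.residueField x)))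
  let ψ : Y.residueField (π x) →+* X.residueField x := (π.residueFieldMap x).hom
  letI : Algebra (Y.residueField (π x)) (X.residueField x) := ψ.toAlgebra
  let a : Fin (n + 1) → X.residueField x := fun j => evF qx _ hi (ratio e i j)
  have ha : adjoin (Y.residueField (π x)) (Set.range a) = ⊤ := by
    refine IntermediateField.toSubfield_injective (gen_x e hsX x hi _ (fun c => ?_) (fun j => ?_))
    · rw [← kF_comp π hπ, kF_congr sY (fromSpecResidueField_comp_map π x), kF_map]
      exact IntermediateField.algebraMap_mem _ (kF (F := Y.residueField (π x)) sY qy c)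
    · exact subset_adjoin _ _ ⟨j, rfl⟩
  obtain ⟨F, _, _, _, _, T, hrel, hind⟩ := exists_zero (L0 := Y.residueField (π x)) (N := n + 1) (Nat.succ_pos n) a ha
    (fun J : Idx n (n + 1) => evF qx _ hi (mono e (n + 1) i J))
    (fun j l => ((i, j, l) : Idx n (n + 1))) (fun j l l' hll => (Prod.ext_iff.1 (Prod.ext_iff.1 hll).2).2)
    (fun j l => by simp only [a]; rw [mono_pow, map_pow]) ((i, i, 0) : Idx n (n + 1))
    (by rw [mono_one, map_one]) hxd
  let φ : X.residueField x ⟶ CommRingCat.of F := CommRingCat.ofHom (algebraMap (X.residueField x) F)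
  let c : σ → F := fun J => T J.down.1 J.down.2
  let h : Spec (CommRingCat.of F) ⟶ 𝔸(σ; X) := ptA (Spec.map φ ≫ qx) c
  let h0 : Spec (CommRingCat.of F) ⟶ 𝔸(σ; Spec (Y.residueField (π x))) :=
    ptA (Spec.map (CommRingCat.ofHom (algebraMap (Y.residueField (π x)) F))) c
  have hgen : h0 (closedPoint F) = genericPoint 𝔸(σ; Spec (Y.residueField (π x))) := by
    refine (apply_closedPoint_eq_generic_iff (R := Y.residueField (π x)) h0 (ptA_over _ _)).2 ?_
    change AlgebraicIndependent _ fun J => cF h0 J
    simp only [h0, cF_ptA, c]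
    exact hind.comp ULift.down ULift.down_injective
  have hcomp : h ≫ g = h0 ≫ AffineSpace.map σ qy := by
    refine pt_ext ?_ fun J => ?_
    · refine (ptA_map_over π _ c).trans (Eq.trans ?_ (ptA_map_over qy _ c).symm)
      refine (Category.assoc _ _ _).trans ((congrArg (Spec.map φ ≫ ·) (fromSpecResidueField_comp_map π x)).trans
        ((Category.assoc _ _ _).symm.trans (congrArg (· ≫ qy) ((Spec.map_comp _ _).symm.trans
          (congrArg Spec.map ?_)))))
      ext1
      exact (IsScalarTower.algebraMap_eq (Y.residueField (π x)) (X.residueField x) F).symm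
    · rw [cF_comp_map, cF_comp_map, cF_ptA, cF_ptA]
  have hhi : (h ≫ 𝔸(σ; X) ↘ X) (closedPoint F) ∈ U e i := by
    rw [ptA_over, Scheme.Hom.comp_apply,
      show (Spec.map φ) (closedPoint F) = closedPoint (X.residueField x) from
        Subsingleton.elim (α := PrimeSpectrum (X.residueField x)) _ _]
    exact hi
  have hz : h (closedPoint F) ∈ Zset e d (n + 1) := by
    refine (mem_Zset_iff e d (n + 1) h hhi).2 fun l => ?_
    refine Eq.trans ?_ (hrel l)
    refine Finset.sum_congr rfl fun J _ => ?_
    rw [cF_ptA, evF_congr (ptA_over (Spec.map φ ≫ qx) c) (U e i) hhi]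
    exact congrArg (T l J * ·) (evF_map φ qx _ _ hi _)
  have hcl : IsClosed (g '' Zset e d (n + 1)) := g.isClosedMap _ (isClosed_Zset e d (n + 1))
  have hmem : (AffineSpace.map σ qy) (genericPoint 𝔸(σ; Spec (Y.residueField (π x)))) ∈ g '' Zset e d (n + 1) :=
    ⟨_, hz, by rw [← hgen, ← Scheme.Hom.comp_apply, ← Scheme.Hom.comp_apply, hcomp]⟩
  have hrange : Set.range (AffineSpace.map σ qy) ⊆ g '' Zset e d (n + 1) := by
    rw [← Set.image_univ, ← genericPoint_closure]
    refine (image_closure_subset_closure_image (AffineSpace.map σ qy).continuous).trans ?_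
    rw [Set.image_singleton]
    exact hcl.closure_subset_iff.2 (Set.singleton_subset_iff.2 hmem)
  have hpre : (𝔸(σ; Y) ↘ Y) ⁻¹' {π x} ⊆ Set.range (AffineSpace.map σ qy) := by
    intro p hp
    have hH := AffineSpace.isPullback_map (n := σ) qy
    have hm : p ∈ Set.range (pullback.fst (𝔸(σ; Y) ↘ Y) qy) := by
      rw [Scheme.Pullback.range_fst, Scheme.range_fromSpecResidueField]
      exact hp
    obtain ⟨p', rfl⟩ := hm
    exact ⟨hH.isoPullback.inv p', by rw [← Scheme.Hom.comp_apply, IsPullback.isoPullback_inv_fst]⟩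
  refine Set.eq_univ_of_univ_subset ?_
  calc (Set.univ : Set 𝔸(σ; Y)) = (𝔸(σ; Y) ↘ Y) ⁻¹' closure {π x} := by
        rw [hxη, genericPoint_closure, Set.preimage_univ]
    _ = closure ((𝔸(σ; Y) ↘ Y) ⁻¹' {π x}) :=
        (AffineSpace.isOpenMap_over Y).preimage_closure_eq_closure_preimage (𝔸(σ; Y) ↘ Y).continuous _
    _ ⊆ g '' Zset e d (n + 1) := hcl.closure_subset_iff.2 (hpre.trans hrange)

include hsX hπ in
/-- A finite surjective multisection. -/
theorem exists_multisection [IsIntegral Y] [IsProper π] [IsProper sY]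
    (hd : ∀ y : Y, topologicalKrullDim (↥(π.fiber y) : Type u) = d) :
    ∃ (X' : Scheme.{u}) (m : X' ⟶ X), IsAffineHom m ∧ IsFinite (m ≫ π) ∧ Surjective (m ≫ π) := by
  haveI : IsLocallyNoetherian Y := LocallyOfFiniteType.isLocallyNoetherian sY
  haveI : IsProper sX := hπ ▸ inferInstanceAs (IsProper (π ≫ sY))
  let σ := Coef.{u} n d (n + 1)
  let g := AffineSpace.map σ π
  haveI : IsProper g :=
    MorphismProperty.of_isPullback (P := @IsProper) (AffineSpace.isPullback_map (n := σ) π).flip inferInstance
  let mQ := AffineSpace.map σ sY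
  haveI : IsProper mQ :=
    MorphismProperty.of_isPullback (P := @IsProper) (AffineSpace.isPullback_map (n := σ) sY).flip inferInstance
  let A := 𝔸(σ; Spec (CommRingCat.of k))
  let sA : A ⟶ Spec (CommRingCat.of k) := 𝔸(σ; Spec (CommRingCat.of k)) ↘ _
  haveI : LocallyOfFiniteType sA := inferInstanceAs (LocallyOfFiniteType (𝔸(σ; Spec (CommRingCat.of k)) ↘ _))
  haveI : IsLocallyNoetherian A := LocallyOfFiniteType.isLocallyNoetherian sA
  haveI : IsLocallyNoetherian 𝔸(σ; Y) := LocallyOfFiniteType.isLocallyNoetherian mQ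
  let Z : TopologicalSpace.Closeds 𝔸(σ; X) := ⟨Zset e d (n + 1), isClosed_Zset e d (n + 1)⟩
  let I := Scheme.IdealSheafData.vanishingIdeal Z
  let ι := I.subschemeι
  have hrι : Set.range ι = Zset e d (n + 1) := by
    rw [Scheme.IdealSheafData.range_subschemeι, Scheme.IdealSheafData.coe_support_vanishingIdeal]
    rfl
  let f : I.subscheme ⟶ 𝔸(σ; Y) := ι ≫ g
  have hfι : ∀ w, f w = g (ι w) := fun w => Scheme.Hom.comp_apply _ _ _
  haveI : Surjective f := ⟨fun q => by
    have : q ∈ g '' Zset e d (n + 1) := by
      rw [image_Zset e π hsX hπ (exists_resTrdeg_eq hd _)]; trivial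
    obtain ⟨z, hz, rfl⟩ := this
    obtain ⟨w, rfl⟩ := hrι.ge hz
    exact ⟨w, hfι w⟩⟩
  have hfm : f ≫ mQ = ι ≫ AffineSpace.map σ sX := by
    simp only [f, g, mQ, Category.assoc, ← AffineSpace.map_comp, hπ]
  -- quasi-finite over the generic coefficients
  have hqf : ∀ w, (f ≫ mQ) w = genericPoint A → f.QuasiFiniteAt w := by
    intro w hw
    refine quasiFiniteAt_of_forall_resTrdeg f (y := f w) (fun w' hw' => ?_) rfl
    have h1 : Dual3.resTrdeg f w' = Dual3.resTrdeg g (ι w') :=
      SpQS.resTrdeg_precomp ι g (SpRelDim.quasiFiniteAt_of_isPreimmersion _ _)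
    rw [h1]
    refine resTrdeg_eq_zero_of_generic e π hsX hπ (resTrdeg_le hd) _ (hrι.le ⟨w', rfl⟩) ?_
    rw [← Scheme.Hom.comp_apply, ← hfm, Scheme.Hom.comp_apply, hw', ← Scheme.Hom.comp_apply]
    exact hw
  let bad : Set A := (f ≫ mQ) '' (f.quasiFiniteLocus : Set I.subscheme)ᶜ
  have hbad : IsClosed bad := (f ≫ mQ).isClosedMap _ f.quasiFiniteLocus.isOpen.isClosed_compl
  have hne : (badᶜ : Set A).Nonempty := ⟨genericPoint A, fun ⟨w, hw, hwg⟩ => hw (hqf w hwg)⟩
  haveI : JacobsonSpace A := LocallyOfFiniteType.jacobsonSpace sA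
  obtain ⟨t, htb, htc⟩ := nonempty_inter_closedPoints hne hbad.isOpen_compl.isLocallyClosed
  let tt := A.fromSpecResidueField t
  haveI : IsClosedImmersion tt := by
    exact isClosed_singleton_iff_isClosedImmersion.1 htc
  let ω : Spec (A.residueField t) ⟶ Spec (CommRingCat.of k) := tt ≫ sA
  haveI : Subsingleton ↥(Spec (A.residueField t)) := inferInstanceAs (Subsingleton (PrimeSpectrum (A.residueField t)))
  haveI : Nonempty ↥(Spec (A.residueField t)) := inferInstanceAs (Nonempty (PrimeSpectrum (A.residueField t)))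
  haveI : IsFinite ω := by
    haveI : LocallyQuasiFinite ω := LocallyQuasiFinite.of_injective fun a b _ => Subsingleton.elim a b
    exact IsFinite.of_locallyQuasiFinite ω
  haveI : Surjective ω := ⟨fun p => ⟨Classical.arbitrary _, Subsingleton.elim (α := PrimeSpectrum k) _ _⟩⟩
  -- the slice of the family at `t`
  let a := pullback.fst mQ tt ≫ (𝔸(σ; Y) ↘ Y)
  have hQ : IsPullback a (pullback.snd mQ tt) sY ω :=
    ((IsPullback.of_hasPullback mQ tt).flip.paste_vert (AffineSpace.isPullback_map (n := σ) sY)).flip
  haveI : IsFinite a := MorphismProperty.of_isPullback (P := @IsFinite) hQ.flip inferInstance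
  haveI : Surjective a := MorphismProperty.of_isPullback (P := @Surjective) hQ.flip inferInstance
  let f' := pullback.snd f (pullback.fst mQ tt)
  haveI : LocallyQuasiFinite f' := by
    rw [locallyQuasiFinite_iff_finite_preimage_singleton]
    intro q'
    refine Set.Finite.of_finite_image (f := pullback.fst f (pullback.fst mQ tt)) ?_
      ((pullback.fst f (pullback.fst mQ tt)).isEmbedding.injective.injOn)
    refine (finite_preimage_of_forall_quasiFiniteAt f (y := pullback.fst mQ tt q') fun w hw => ?_).subset ?_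
    · by_contra hn
      refine htb ⟨w, hn, ?_⟩
      rw [Scheme.Hom.comp_apply, hw, ← Scheme.Hom.comp_apply, pullback.condition, Scheme.Hom.comp_apply]
      exact Scheme.fromSpecResidueField_apply _ _
    · rintro _ ⟨w, hw, rfl⟩
      rw [Set.mem_preimage, ← Scheme.Hom.comp_apply, pullback.condition, Scheme.Hom.comp_apply]
      exact congrArg _ hw
  haveI : IsFinite f' := IsFinite.of_isProper_of_locallyQuasiFinite f'
  let m := pullback.fst f (pullback.fst mQ tt) ≫ ι ≫ (𝔸(σ; X) ↘ X)
  have hm : m ≫ π = f' ≫ a := by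
    simp only [m, f', a, Category.assoc]
    rw [← pullback.condition_assoc]
    simp only [f, g, Category.assoc, AffineSpace.map_over]
  refine ⟨_, m, ?_, ?_, ?_⟩
  · haveI : IsAffineHom (m ≫ π) := by rw [hm]; infer_instance
    exact IsAffineHom.of_comp (f := m) (g := π)
  · rw [hm]; infer_instance
  · rw [hm]; infer_instance

end Groth.Agent.Multisec
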