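import Groth.Agent.Multisec.Charts

/-!
The universal family of general forms on `X ⊆ ℙⁿ` and its field valued points.
-/

set_option autoImplicit false
set_option backward.isDefEq.respectTransparency false
set_option backward.isDefEq.respectTransparency.types false
set_option linter.style.haveILetI false
set_option maxHeartbeats 1000000

universe u

open CategoryTheory CategoryTheory.Limits AlgebraicGeometry TopologicalSpace Opposite IsLocalRing

noncomputable section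

namespace Groth.Agent.Multisec

section Affine

variable {σ : Type u} {F : Type u} [Field F] {S : Scheme.{u}}

/-- The coordinates of a field valued point of affine space. -/
def cF (h : Spec (CommRingCat.of F) ⟶ 𝔸(σ; S)) (i : σ) : F := evF h ⊤ trivial (AffineSpace.coord S i)

/-- The point of affine space with given coordinates. -/
def ptA (q : Spec (CommRingCat.of F) ⟶ S) (c : σ → F) : Spec (CommRingCat.of F) ⟶ 𝔸(σ; S) :=
  AffineSpace.homOfVector q fun i => (Scheme.ΓSpecIso (CommRingCat.of F)).inv (c i)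

lemma ptA_over (q : Spec (CommRingCat.of F) ⟶ S) (c : σ → F) : ptA q c ≫ 𝔸(σ; S) ↘ S = q :=
  AffineSpace.homOfVector_over _ _

lemma cF_eq_appTop (h : Spec (CommRingCat.of F) ⟶ 𝔸(σ; S)) (i : σ) :
    cF h i = (Scheme.ΓSpecIso (CommRingCat.of F)).hom (h.appTop (AffineSpace.coord S i)) := by
  change ((h.appLE ⊤ ⊤ _ ≫ (Scheme.ΓSpecIso _).hom).hom) _ = _
  rw [show h.appLE ⊤ ⊤ (top_le_preimage trivial) = h.appTop from (Scheme.Hom.app_eq_appLE _).symm]
  rfl

lemma cF_ptA (q : Spec (CommRingCat.of F) ⟶ S) (c : σ → F) (i : σ) : cF (ptA q c) i = c i := by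
  rw [cF_eq_appTop, ptA, AffineSpace.homOfVector_appTop_coord]
  exact (Scheme.ΓSpecIso (CommRingCat.of F)).inv_hom_id_apply (c i)

lemma pt_ext {h h' : Spec (CommRingCat.of F) ⟶ 𝔸(σ; S)} (h1 : h ≫ 𝔸(σ; S) ↘ S = h' ≫ 𝔸(σ; S) ↘ S)
    (h2 : ∀ i, cF h i = cF h' i) : h = h' := by
  refine AffineSpace.hom_ext h1 fun i => ?_
  have := h2 i
  rw [cF_eq_appTop, cF_eq_appTop] at this
  exact (Scheme.ΓSpecIso (CommRingCat.of F)).commRingCatIsoToRingEquiv.injective this

lemma cF_map {K : Type u} [Field K] (f : CommRingCat.of K ⟶ CommRingCat.of F)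
    (h : Spec (CommRingCat.of K) ⟶ 𝔸(σ; S)) (i : σ) : cF (Spec.map f ≫ h) i = f.hom (cF h i) :=
  evF_map f h ⊤ trivial trivial _

lemma cF_comp_map {T : Scheme.{u}} (φ : T ⟶ S) (h : Spec (CommRingCat.of F) ⟶ 𝔸(σ; T)) (i : σ) :
    cF (h ≫ AffineSpace.map σ φ) i = cF h i := by
  rw [cF_eq_appTop, cF_eq_appTop, Scheme.Hom.comp_appTop, CommRingCat.comp_apply,
    AffineSpace.map_appTop_coord]

end Affine

variable {k : Type u} [Field k] {n : ℕ} {X : Scheme.{u}} (e : X ⟶ CohB1.ProjSpace n k) (d N : ℕ)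

/-- The coefficients of `d` forms. -/
abbrev Coef (n d N : ℕ) : Type u := ULift.{u} (Fin d × Idx n N)

/-- The `l`-th universal form in the chart `i`. -/
def sec (i : Fin (n + 1)) (l : Fin d) :
    Γ(𝔸(Coef.{u} n d N; X), (𝔸(Coef.{u} n d N; X) ↘ X) ⁻¹ᵁ U e i) :=
  ∑ J : Idx n N, (𝔸(Coef.{u} n d N; X)).presheaf.map (homOfLE le_top).op (AffineSpace.coord X ⟨(l, J)⟩) *
    (𝔸(Coef.{u} n d N; X) ↘ X).app (U e i) (mono e N i J)

/-- The common zeros of the universal forms. -/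
def Zset : Set 𝔸(Coef.{u} n d N; X) := {z | ∀ i l, z ∉ (𝔸(Coef.{u} n d N; X)).basicOpen (sec e d N i l)}

lemma isClosed_Zset : IsClosed (Zset e d N) := by
  rw [show Zset e d N = ⋂ (i : Fin (n + 1)) (l : Fin d),
    ((𝔸(Coef.{u} n d N; X)).basicOpen (sec e d N i l) : Set _)ᶜ by ext z; simp [Zset]]
  exact isClosed_iInter fun i => isClosed_iInter fun l => (Opens.isOpen _).isClosed_compl

variable {F : Type u} [Field F]

lemma evF_sec (h : Spec (CommRingCat.of F) ⟶ 𝔸(Coef.{u} n d N; X)) {i : Fin (n + 1)}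
    (hi : (h ≫ 𝔸(Coef.{u} n d N; X) ↘ X) (closedPoint F) ∈ U e i) (l : Fin d) :
    evF h _ hi (sec e d N i l) =
      ∑ J : Idx n N, cF h ⟨(l, J)⟩ * evF (h ≫ 𝔸(Coef.{u} n d N; X) ↘ X) _ hi (mono e N i J) := by
  rw [sec, map_sum]
  refine Finset.sum_congr rfl fun J _ => ?_
  rw [map_mul, evF_res h (V' := (𝔸(Coef.{u} n d N; X) ↘ X) ⁻¹ᵁ U e i) hi le_top, evF_comp]
  rfl

/-- A field valued point lies in the zero locus iff the forms vanish in one chart. -/
lemma mem_Zset_iff (h : Spec (CommRingCat.of F) ⟶ 𝔸(Coef.{u} n d N; X)) {i : Fin (n + 1)}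
    (hi : (h ≫ 𝔸(Coef.{u} n d N; X) ↘ X) (closedPoint F) ∈ U e i) :
    h (closedPoint F) ∈ Zset e d N ↔
      ∀ l, ∑ J : Idx n N, cF h ⟨(l, J)⟩ * evF (h ≫ 𝔸(Coef.{u} n d N; X) ↘ X) _ hi (mono e N i J) = 0 := by
  constructor
  · intro hz l
    rw [← evF_sec e d N h hi l]
    exact (evF_eq_zero_iff _ _ _ _).2 (hz i l)
  · intro hz i' l hmem
    have hi' : (h ≫ 𝔸(Coef.{u} n d N; X) ↘ X) (closedPoint F) ∈ U e i' :=
      (𝔸(Coef.{u} n d N; X)).basicOpen_le _ hmem
    refine (evF_eq_zero_iff h _ hi' (sec e d N i' l)).1 ?_ hmem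
    rw [evF_sec e d N h hi' l]
    have h0 := hz l
    rw [Finset.sum_congr rfl fun J _ => show _ = evF (h ≫ 𝔸(Coef.{u} n d N; X) ↘ X) _ hi (ratio e i i') ^ N *
        (cF h ⟨(l, J)⟩ * evF (h ≫ 𝔸(Coef.{u} n d N; X) ↘ X) _ hi' (mono e N i' J)) by
      rw [evF_mono_change e _ hi hi', mul_left_comm], ← Finset.mul_sum] at h0
    exact (mul_eq_zero.1 h0).resolve_left (pow_ne_zero _ (evF_ratio_ne_zero e _ hi hi'))

variable {d N} [IsClosedImmersion e] {sX : X ⟶ Spec (CommRingCat.of k)}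

/-- The residue field of a point of `X` is generated by the scalars and the ratios. -/
lemma gen_x (hsX : e ≫ CohB1.ProjSpace.toSpec n k = sX) (x : X) {i : Fin (n + 1)}
    (hi : (X.fromSpecResidueField x) (closedPoint (X.residueField x)) ∈ U e i)
    (K : Subfield (X.residueField x)) (hk : ∀ c, kF sX (X.fromSpecResidueField x) c ∈ K)
    (hr : ∀ j, evF (X.fromSpecResidueField x) _ hi (ratio e i j) ∈ K) : K = ⊤ := by
  let q : Spec (CommRingCat.of K) ⟶ X :=
    Spec.map (CommRingCat.ofHom ((evF (X.fromSpecResidueField x) _ hi).codRestrict K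
      (evF_mem e hsX _ hi K hk hr))) ≫ (isAffineOpen_U e i).fromSpec
  refine eq_top_of_factor K q ?_
  rw [← Category.assoc, ← Spec.map_comp]
  exact specMap_evF_fromSpec (X.fromSpecResidueField x) (isAffineOpen_U e i) hi

/-- The residue field of a point of affine space over `X` is generated by the scalars, the ratios and
the coordinates. -/
lemma gen_z {σ : Type u} (hsX : e ≫ CohB1.ProjSpace.toSpec n k = sX) (z : 𝔸(σ; X)) {i : Fin (n + 1)}
    (hi : ((𝔸(σ; X)).fromSpecResidueField z ≫ 𝔸(σ; X) ↘ X) (closedPoint ((𝔸(σ; X)).residueField z)) ∈ U e i)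
    (K : Subfield ((𝔸(σ; X)).residueField z))
    (hk : ∀ c, kF sX ((𝔸(σ; X)).fromSpecResidueField z ≫ 𝔸(σ; X) ↘ X) c ∈ K)
    (hr : ∀ j, evF ((𝔸(σ; X)).fromSpecResidueField z ≫ 𝔸(σ; X) ↘ X) _ hi (ratio e i j) ∈ K)
    (hc : ∀ J, cF ((𝔸(σ; X)).fromSpecResidueField z) J ∈ K) : K = ⊤ := by
  let h := (𝔸(σ; X)).fromSpecResidueField z
  let q : Spec (CommRingCat.of K) ⟶ X :=
    Spec.map (CommRingCat.ofHom ((evF (h ≫ 𝔸(σ; X) ↘ X) _ hi).codRestrict K (evF_mem e hsX _ hi K hk hr))) ≫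
      (isAffineOpen_U e i).fromSpec
  have hq : Spec.map (CommRingCat.ofHom K.subtype) ≫ q = h ≫ 𝔸(σ; X) ↘ X := by
    rw [← Category.assoc, ← Spec.map_comp]
    exact specMap_evF_fromSpec (h ≫ 𝔸(σ; X) ↘ X) (isAffineOpen_U e i) hi
  refine eq_top_of_factor K (ptA q fun J => ⟨cF h J, hc J⟩) (pt_ext ?_ fun J => ?_)
  · rw [Category.assoc, ptA_over, hq]
  · rw [cF_map, cF_ptA]
    rfl

end Groth.Agent.Multisec
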